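import Cfsg.Agent.Lib.LocalEven.RootReduction.Products

/-!
# Involutions fixing two classes

A bad involution fixes two classes. In each class it fixes it commutes with a member, its centraliser
is transitive on the members it commutes with, and its product with any of them is bad again.
-/

set_option autoImplicit false

namespace CfsgLib.LocalEven.RootReduction

open Cfsg CfsgLib.Perm.RootInvolution

universe u

variable {G : Type*} [Group G] {D : Set G} {R : G → G → Prop}

/-- An involution fixing two classes. -/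
def Bad (D : Set G) (R : G → G → Prop) (v : G) : Prop :=
  v * v = 1 ∧ v ≠ 1 ∧ ∃ x ∈ D, ∃ y ∈ D, ¬ R x y ∧ Fix R v x ∧ Fix R v y

/-- Members in one class commute. -/
def Commutes (D : Set G) (R : G → G → Prop) : Prop := ∀ a ∈ D, ∀ b ∈ D, R a b → Commute a b

/-- The induction hypothesis of the reduction. -/
def CommutesBelow (n : ℕ) : Prop :=
  ∀ (H : Type u) [Group H] [Finite H] (E : Set H) (S : H → H → Prop),
    Nat.card H < n → Setup E S → Commutes E S

namespace Setup

variable (h : Setup D R) {v : G}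
include h

theorem not_mem_of_bad (hv : Bad D R v) : v ∉ D := by
  intro hvD
  obtain ⟨-, -, x, hx, y, hy, hxy, hfx, hfy⟩ := hv
  exact hxy (h.trans (h.symm (h.rel_of_fix hvD hx hfx)) (h.rel_of_fix hvD hy hfy))

/-- A member commuting with the involution in each class it fixes. -/
theorem exists_centred (hv : v * v = 1) {e : G} (he : e ∈ D) (hfix : Fix R v e) :
    ∃ f ∈ D, R e f ∧ Commute v f := by
  have hvi : v⁻¹ = v := inv_eq_of_mul_eq_one_left hv
  have he' : v * e * v ∈ D := by simpa [hvi] using h.root.conj_mem e he v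
  have hr : R e (v * e * v) := by
    have h1 := h.symm hfix
    rwa [hvi] at h1
  by_cases heq : v * e * v = e
  · refine ⟨e, he, h.refl e, mul_inv_eq_iff_eq_mul.1 ?_⟩
    rwa [hvi]
  have hswap : v * (v * e * v) * v = e := by
    rw [← mul_assoc, ← mul_assoc, hv, one_mul, mul_assoc, hv, mul_one]
  have hex : ∀ {f : G}, v * f * v = f → Commute v f := fun {f} hf =>
    mul_inv_eq_iff_eq_mul.1 (by rwa [hvi])
  generalize he'def : v * e * v = e' at he' hr heq hswap
  by_cases hc : Commute e e'
  · have hm : e * e' ∈ D := h.mul_mem_of_commute he he' hc (Ne.symm heq)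
    refine ⟨e * e', hm, h.of_commute he hm ((Commute.refl e).mul_right hc), hex ?_⟩
    calc v * (e * e') * v = v * e * (v * v) * e' * v := by rw [hv]; simp only [mul_one, mul_assoc]
      _ = v * e * v * (v * e' * v) := by simp only [mul_assoc]
      _ = e * e' := by rw [he'def, hswap, hc.eq]
  by_cases ho : OddAdj D e e'
  · obtain ⟨m, hm, hme, -, hw⟩ := exists_middle h.root ho
    exact ⟨m, hm, h.symm (h.middle_rel he hm hme hr), hw v hv he'def⟩
  obtain ⟨ht, -⟩ := tri_bracket h.root he he' ho hc
  refine ⟨_, ht.right, h.of_commute he ht.right ht.comm, hex ?_⟩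
  have hinv : e' * e * e' * e = (e * e' * e * e')⁻¹ := by
    simp only [mul_inv_rev, inv_eq h.root he, inv_eq h.root he', mul_assoc]
  calc v * (e * e' * e * e') * v
      = v * e * (v * v) * e' * (v * v) * e * (v * v) * e' * v := by
        simp only [hv, mul_one, mul_assoc]
    _ = (v * e * v) * (v * e' * v) * (v * e * v) * (v * e' * v) := by simp only [mul_assoc]
    _ = e * e' * e * e' := by rw [he'def, hswap, hinv, inv_eq h.root ht.right]

/-- A bad involution commutes with a member outside any given class. -/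
theorem exists_commute_outside (hv : Bad D R v) (a : G) :
    ∃ e ∈ D, ¬ R a e ∧ Commute v e := by
  obtain ⟨hv2, -, x, hx, y, hy, hxy, hfx, hfy⟩ := hv
  obtain ⟨f, hf, hxf, hvf⟩ := h.exists_centred hv2 hx hfx
  obtain ⟨g, hg, hyg, hvg⟩ := h.exists_centred hv2 hy hfy
  by_cases haf : R a f
  · exact ⟨g, hg, fun hag => hxy (h.trans (h.trans hxf (h.trans (h.symm haf) hag)) (h.symm hyg)),
      hvg⟩
  · exact ⟨f, hf, haf, hvf⟩

/-- The centraliser of a bad involution is transitive on the members commuting with it. -/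
theorem exists_conj_bad (hv : Bad D R v) {f q : G} (hf : f ∈ D) (hq : q ∈ D) (hvf : Commute v f)
    (hvq : Commute v q) : ∃ k, Commute k v ∧ k * f * k⁻¹ = q := by
  by_cases hfq : R f q
  · obtain ⟨e, he, hfe, hve⟩ := h.exists_commute_outside hv f
    obtain ⟨k, h1, h2, -⟩ := h.exists_centralizing hf hq hfq he hfe hvf hvq hve
    exact ⟨k, h1, h2⟩
  · exact h.exists_conj_of_not_rel hf hq hfq hvf hvq

theorem bad_conj (hv : Bad D R v) (k : G) : Bad D R (k * v * k⁻¹) := by
  obtain ⟨hv2, hv1, x, hx, y, hy, hxy, hfx, hfy⟩ := hv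
  refine ⟨?_, fun e => hv1 ?_, _, h.root.conj_mem x hx k, _, h.root.conj_mem y hy k,
    fun e => hxy ((h.rel_conj_iff k).1 e), (h.fix_conj_iff k).2 hfx, (h.fix_conj_iff k).2 hfy⟩
  · rw [show k * v * k⁻¹ * (k * v * k⁻¹) = k * (v * v) * k⁻¹ by group, hv2]; group
  · rwa [← MulAut.conj_apply, MulEquiv.map_eq_one_iff] at e

/-- The product of a bad involution with a member it commutes with is bad. -/
theorem bad_mul (hv : Bad D R v) {q : G} (hq : q ∈ D) (hvq : Commute v q) : Bad D R (v * q) := by
  obtain ⟨p, hp, hmv⟩ := h.exists_moved hv.1 hv.2.1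
  obtain ⟨m, hm, hvm, hvmp, hmp⟩ := h.middle_of_moved hv.1 hp hmv
  obtain ⟨k, hkv, hkm⟩ := h.exists_conj_bad hv hm hq hvm hvq
  have hbad : Bad D R (v * m) := by
    refine ⟨?_, fun e => h.not_mem_of_bad hv ?_, m, hm, p, hp, hmp,
      h.fix_of_commute (hvm.mul_left (Commute.refl m)), h.fix_of_commute hvmp⟩
    · rw [hvm.symm.mul_mul_mul_comm, hv.1, sq_one h.root hm, one_mul]
    · rw [mul_eq_one_iff_eq_inv, inv_eq h.root hm] at e
      rwa [e]
  have h1 := h.bad_conj hbad k
  rwa [show k * (v * m) * k⁻¹ = k * v * k⁻¹ * (k * m * k⁻¹) by group, hkm, hkv.eq,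
    mul_inv_cancel_right] at h1

end Setup

end CfsgLib.LocalEven.RootReduction
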