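import Cfsg.Agent.Lib.Perm.RootTriangle
import Cfsg.Agent.Lib.Involution.Dihedral
import Cfsg.Agent.Lib.Solvable.Cores

/-!
# Root involutions with an invariant relation containing commutation

`Setup D R`: `D` is a set of root involutions with a triangle, `R` is an invariant equivalence
relation that contains commutation on `D` and has two classes on `D`, and the group has no normal
2-subgroup other than `1`. The components of the commuting graph give such a relation, and so does
the restriction of one to the centraliser of an element; this is why the relation is arbitrary.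

Each member fixes only its own class, members in different classes have products of odd order, and
only central elements fix all classes.
-/

set_option autoImplicit false
set_option linter.style.haveILetI false

namespace CfsgLib.LocalEven.RootReduction

open Cfsg CfsgLib.Perm.RootInvolution CfsgLib.Involution

variable {G : Type*} [Group G] {D : Set G} {R : G → G → Prop}

/-- The standing hypothesis. -/
structure Setup (D : Set G) (R : G → G → Prop) : Prop where
  root : IsRootInvolutionSet D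
  tri : ∃ x y, Tri D x y
  refl : ∀ a, R a a
  symm : ∀ {a b}, R a b → R b a
  trans : ∀ {a b c}, R a b → R b c → R a c
  conj : ∀ {a b} (g : G), R a b → R (g * a * g⁻¹) (g * b * g⁻¹)
  of_commute : ∀ {a b}, a ∈ D → b ∈ D → Commute a b → R a b
  two : ∃ x ∈ D, ∃ y ∈ D, ¬ R x y
  o2 : pCore 2 G = ⊥

/-- `g` fixes the class of `a`. -/
def Fix (R : G → G → Prop) (g a : G) : Prop := R (g * a * g⁻¹) a

/-- An odd pair has a middle member, which exchanges the two, commutes with whatever commutes with
both, and commutes with every involution exchanging them. -/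
theorem exists_middle (hD : IsRootInvolutionSet D) {x x' : G} (h : OddAdj D x x') :
    ∃ m ∈ D, m * x * m⁻¹ = x' ∧ (∀ g, Commute g x → Commute g x' → Commute g m) ∧
      ∀ w : G, w * w = 1 → w * x * w = x' → Commute w m := by
  obtain ⟨hx, hx', -, j, hj⟩ := h
  have hone : (x * x') ^ (2 * (j : ℤ) + 1) = 1 := by
    rw [show (2 * (j : ℤ) + 1) = ((2 * j + 1 : ℕ) : ℤ) by push_cast; ring, zpow_natCast, ← hj,
      pow_orderOf_eq_one]
  have hinv : x * (x * x') * x⁻¹ = (x * x')⁻¹ :=
    Dihedral.conj_mul_left (hD.orderOf_eq x hx) (hD.orderOf_eq x' hx')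
  have hxk : x * (x * x') = x' := cancel hD hx x'
  generalize hk : x * x' = k at hone hinv hxk
  obtain ⟨m, hm⟩ : ∃ m, m = x * k ^ (-(j : ℤ)) := ⟨_, rfl⟩
  have hmem : m ∈ D := by
    have h1 := hD.conj_mem x hx (k ^ ((j : ℤ) * (j + 1)))
    rwa [Dihedral.conj_zpow_reflection hinv,
      show -(2 * ((j : ℤ) * (j + 1))) = -(j : ℤ) + (2 * (j : ℤ) + 1) * (-j) by ring, zpow_add,
      zpow_mul k (2 * (j : ℤ) + 1), hone, one_zpow, mul_one, ← hm] at h1
  refine ⟨m, hmem, ?_, fun g hg hg' => hm ▸ hg.mul_right ((hk ▸ hg.mul_right hg').zpow_right _), ?_⟩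
  · have h2 := Dihedral.conj_zpow_reflection hinv (-(j : ℤ))
    have h3 : k ^ (2 * (j : ℤ)) = k⁻¹ := eq_inv_of_mul_eq_one_left (by rw [← zpow_add_one, hone])
    calc m * x * m⁻¹ = x * (k ^ (-(j : ℤ)) * x * (k ^ (-(j : ℤ)))⁻¹) * x⁻¹ := by rw [hm]; group
      _ = k ^ (2 * (j : ℤ)) * x⁻¹ := by
          rw [h2, cancel hD hx, show -(2 * -(j : ℤ)) = 2 * (j : ℤ) by ring]
      _ = x' := by rw [h3, ← hk, mul_inv_rev, inv_eq hD hx, inv_eq hD hx', mul_assoc, sq_one hD hx,
          mul_one]
  · intro w hw hwx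
    have hwi : w⁻¹ = w := inv_eq_of_mul_eq_one_left hw
    have hwx' : w * x' * w = x := by
      rw [← hwx]; simp only [← mul_assoc, hw, one_mul]; rw [mul_assoc, hw, mul_one]
    have hwk : w * k * w⁻¹ = k⁻¹ := by
      rw [← hk, mul_inv_rev, inv_eq hD hx, inv_eq hD hx', hwi]
      calc w * (x * x') * w = w * x * (w * w) * x' * w := by rw [hw]; simp only [mul_one, mul_assoc]
        _ = w * x * w * (w * x' * w) := by simp only [mul_assoc]
        _ = x' * x := by rw [hwx, hwx']
    apply mul_inv_eq_iff_eq_mul.1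
    calc w * m * w⁻¹ = (w * x * w⁻¹) * (w * k ^ (-(j : ℤ)) * w⁻¹) := by rw [hm]; group
      _ = x * (k * k ^ (j : ℤ)) := by
          rw [Dihedral.conj_zpow hwk, neg_neg, hwi, hwx, ← mul_assoc, hxk]
      _ = m := by
          rw [hm, ← zpow_one_add,
            show 1 + (j : ℤ) = -(j : ℤ) + (2 * (j : ℤ) + 1) by ring, zpow_add, hone, mul_one]

namespace Setup

variable (h : Setup D R)
include h

theorem oddAdj {a b : G} (ha : a ∈ D) (hb : b ∈ D) (hn : ¬ R a b) : OddAdj D a b := by
  by_contra ho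
  have hc : ¬ Commute a b := fun e => hn (h.of_commute ha hb e)
  obtain ⟨hta, htb⟩ := tri_bracket h.root ha hb ho hc
  exact hn (h.trans (h.of_commute ha hta.right hta.comm)
    (h.symm (h.of_commute hb htb.right htb.comm)))

theorem rel_of_not_oddAdj {a b : G} (ha : a ∈ D) (hb : b ∈ D) (ho : ¬ OddAdj D a b) : R a b :=
  by_contra fun hn => ho (h.oddAdj ha hb hn)

theorem exists_not_rel (a : G) : ∃ e ∈ D, ¬ R a e := by
  obtain ⟨x, hx, y, hy, hxy⟩ := h.two
  by_contra hcon
  push Not at hcon
  exact hxy (h.trans (h.symm (hcon x hx)) (hcon y hy))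

theorem rel_conj_iff {a b : G} (g : G) : R (g * a * g⁻¹) (g * b * g⁻¹) ↔ R a b := by
  refine ⟨fun e => ?_, h.conj g⟩
  simpa [mul_assoc] using h.conj g⁻¹ e

theorem fix_of_commute {g a : G} (hc : Commute g a) : Fix R g a := by
  rw [Fix, hc.eq, mul_inv_cancel_right]
  exact h.refl a

theorem fix_congr {g a b : G} (hg : Fix R g a) (hab : R a b) : Fix R g b :=
  h.trans (h.trans (h.conj g (h.symm hab)) hg) hab

/-- Whatever commutes with a member of a class fixes the class. -/
theorem fix_of_commute_rel {g f a : G} (hc : Commute g f) (hfa : R f a) : Fix R g a :=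
  h.fix_congr (h.fix_of_commute hc) hfa

theorem fix_mul {g k a : G} (hg : Fix R g a) (hk : Fix R k a) : Fix R (g * k) a := by
  have h1 := h.conj g hk
  rw [show g * (k * a * k⁻¹) * g⁻¹ = g * k * a * (g * k)⁻¹ by group] at h1
  exact h.trans h1 hg

theorem fix_inv {g a : G} (hg : Fix R g a) : Fix R g⁻¹ a := by
  have h1 := h.conj g⁻¹ hg
  rw [show g⁻¹ * (g * a * g⁻¹) * g⁻¹⁻¹ = a by group] at h1
  exact h.symm h1

theorem fix_conj_iff {g a : G} (k : G) : Fix R (k * g * k⁻¹) (k * a * k⁻¹) ↔ Fix R g a := by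
  rw [Fix, Fix, show k * g * k⁻¹ * (k * a * k⁻¹) * (k * g * k⁻¹)⁻¹ = k * (g * a * g⁻¹) * k⁻¹ by
    group, h.rel_conj_iff]

/-- A member fixes only its own class. -/
theorem rel_of_fix {d e : G} (hd : d ∈ D) (he : e ∈ D) (hf : Fix R d e) : R d e := by
  by_contra hn
  obtain ⟨g, hg, hge⟩ := Dihedral.exists_conj_of_odd (h.root.orderOf_eq d hd)
    (h.root.orderOf_eq e he) (h.oddAdj hd he hn).2.2.2
  obtain ⟨k, rfl⟩ := hg
  have hfix : Fix R ((d * e) ^ k) e := by
    have h1 : Fix R (d * e) e := h.fix_mul hf (h.fix_of_commute (Commute.refl e))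
    have h2 : ∀ n : ℕ, Fix R ((d * e) ^ n) e := by
      intro n
      induction n with
      | zero => rw [pow_zero]; exact h.fix_of_commute (Commute.one_left e)
      | succ n ih => rw [pow_succ]; exact h.fix_mul ih h1
    cases k with
    | ofNat n => rw [Int.ofNat_eq_natCast, zpow_natCast]; exact h2 n
    | negSucc n => rw [zpow_negSucc]; exact h.fix_inv (h2 _)
  refine hn ((h.rel_conj_iff ((d * e) ^ k)).1 ?_)
  have e1 : (d * e) ^ k * d * ((d * e) ^ k)⁻¹ = e := hge
  rw [e1]
  exact h.symm hfix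

theorem middle_rel {x x' m : G} (hx : x ∈ D) (hm : m ∈ D) (hmx : m * x * m⁻¹ = x') (hr : R x x') :
    R m x := by
  refine h.rel_of_fix hm hx ?_
  rw [Fix, hmx]
  exact h.symm hr

theorem middle_not_rel {x x' m : G} (hmx : m * x * m⁻¹ = x') (hr : ¬ R x x') : ¬ R m x := by
  intro hmx'
  have h1 : Fix R m x := h.fix_of_commute_rel (Commute.refl m) hmx'
  rw [Fix, hmx] at h1
  exact hr (h.symm h1)

/-- The middle member of a moved member and its image. -/
theorem middle_of_moved {u p : G} (hu : u * u = 1) (hp : p ∈ D) (hmv : ¬ Fix R u p) :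
    ∃ f ∈ D, Commute u f ∧ Commute (u * f) p ∧ ¬ R f p := by
  have hui : u⁻¹ = u := inv_eq_of_mul_eq_one_left hu
  have hnr : ¬ R p (u * p * u⁻¹) := fun e => hmv (h.symm e)
  have ho := h.oddAdj hp (h.root.conj_mem p hp u) hnr
  obtain ⟨f, hf, hfp, -, hw⟩ := exists_middle h.root ho
  have hfu : Commute u f := hw u hu (by rw [hui])
  refine ⟨f, hf, hfu, mul_inv_eq_iff_eq_mul.1 ?_, h.middle_not_rel hfp hnr⟩
  rw [show u * f * p * (u * f)⁻¹ = u * (f * p * f⁻¹) * u⁻¹ by group, hfp,
    show u * (u * p * u⁻¹) * u⁻¹ = u * u * p * (u * u)⁻¹ by group, hu]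
  group

/-- An element commuting with two members in different classes conjugates one to the other inside
its centraliser. -/
theorem exists_conj_of_not_rel {w x y : G} (hx : x ∈ D) (hy : y ∈ D) (hn : ¬ R x y)
    (hwx : Commute w x) (hwy : Commute w y) : ∃ k, Commute k w ∧ k * x * k⁻¹ = y := by
  obtain ⟨k, ⟨i, rfl⟩, hk⟩ := Dihedral.exists_conj_of_odd (h.root.orderOf_eq x hx)
    (h.root.orderOf_eq y hy) (h.oddAdj hx hy hn).2.2.2
  exact ⟨_, ((hwx.mul_right hwy).zpow_right i).symm, hk⟩

/-- An element commuting with two members of one class and one outside conjugates one to the other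
inside its centraliser and the stabiliser of the class. -/
theorem exists_centralizing {w f q e : G} (hf : f ∈ D) (hq : q ∈ D) (hfq : R f q) (he : e ∈ D)
    (hfe : ¬ R f e) (hwf : Commute w f) (hwq : Commute w q) (hwe : Commute w e) :
    ∃ k, Commute k w ∧ k * f * k⁻¹ = q ∧ Fix R k f := by
  obtain ⟨k₁, hk₁, hk₁f⟩ := h.exists_conj_of_not_rel hf he hfe hwf hwe
  obtain ⟨k₂, hk₂, hk₂e⟩ := h.exists_conj_of_not_rel he hq
    (fun e' => hfe (h.trans hfq (h.symm e'))) hwe hwq
  have hk : k₂ * k₁ * f * (k₂ * k₁)⁻¹ = q := by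
    rw [show k₂ * k₁ * f * (k₂ * k₁)⁻¹ = k₂ * (k₁ * f * k₁⁻¹) * k₂⁻¹ by group, hk₁f, hk₂e]
  refine ⟨k₂ * k₁, hk₂.mul_left hk₁, hk, ?_⟩
  rw [Fix, hk]
  exact h.symm hfq

/-- There is one class. -/
theorem exists_conj {a b : G} (ha : a ∈ D) (hb : b ∈ D) : ∃ g : G, g * a * g⁻¹ = b := by
  by_cases hab : R a b
  · obtain ⟨e, he, hae⟩ := h.exists_not_rel a
    obtain ⟨k, -, hk, -⟩ := h.exists_centralizing ha hb hab he hae (Commute.one_left a)
      (Commute.one_left b) (Commute.one_left e)
    exact ⟨k, hk⟩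
  · exact conj_of_oddAdj h.root (h.oddAdj ha hb hab)

/-- Every member lies in a triangle. -/
theorem exists_tri {a : G} (ha : a ∈ D) : ∃ y, Tri D a y := by
  obtain ⟨x, y, ht⟩ := h.tri
  obtain ⟨g, rfl⟩ := h.exists_conj ht.left ha
  exact ⟨_, ht.conj h.root g⟩

/-- A member commuting with the product of two commuting members is in their class. -/
theorem rel_of_commute_mul {d d' t : G} (hd : d ∈ D) (hd' : d' ∈ D) (hc : Commute d d')
    (hne : d ≠ d') (ht : t ∈ D) (hvt : Commute (d * d') t) : R d t := by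
  by_contra hn
  have hn' : ¬ R d' t := fun e => hn (h.trans (h.of_commute hd hd' hc) e)
  obtain ⟨-, -, -, j, hj⟩ := h.oddAdj hd ht hn
  obtain ⟨-, -, -, i, hi⟩ := h.oddAdj hd' ht hn'
  have e2 : d * t * (d * t) = d' * t * (d' * t) := by
    have e1 : d * t * d = d' * t * d' := by
      calc d * t * d = d * t * (d * d') * d' := by
            simp only [mul_assoc, sq_one h.root hd', mul_one]
        _ = d * (d * d' * t) * d' := by rw [mul_assoc d t, ← hvt.eq]
        _ = d' * t * d' := by simp only [mul_assoc, cancel h.root hd]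
    simp only [← mul_assoc, e1]
  apply hne
  have h1 : (d * t) ^ 2 = (d' * t) ^ 2 := by rw [pow_two, pow_two, e2]
  have hr : ∀ {x : G} {j : ℕ}, orderOf x = 2 * j + 1 → orderOf (x ^ 2) = 2 * j + 1 := fun hj => by
    rw [orderOf_pow' _ two_ne_zero, hj, Nat.coprime_two_right.2 (⟨_, rfl⟩ : Odd _), Nat.div_one]
  have hij : i = j := by
    have h2 := hr hj
    have h3 := hr hi
    rw [h1, h3] at h2
    omega
  subst hij
  have h2 : d * t = d' * t := by
    have h3 := congrArg (· ^ (i + 1)) h1
    simp only [← pow_mul] at h3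
    rw [show 2 * (i + 1) = 2 * i + 1 + 1 by omega, pow_succ (d * t) (2 * i + 1),
      pow_succ (d' * t) (2 * i + 1)] at h3
    conv_lhs at h3 => rw [← hj, pow_orderOf_eq_one, one_mul]
    conv_rhs at h3 => rw [← hi, pow_orderOf_eq_one, one_mul]
    exact h3
  exact mul_right_cancel h2

/-- What centralises the product of two commuting members fixes their class. -/
theorem fix_of_commute_mul {d d' g : G} (hd : d ∈ D) (hd' : d' ∈ D) (hc : Commute d d')
    (hne : d ≠ d') (hg : Commute (d * d') g) : Fix R g d := by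
  refine h.symm (h.rel_of_commute_mul hd hd' hc hne (h.root.conj_mem d hd g) ?_)
  have h1 : Commute (g * (d * d') * g⁻¹) (g * d * g⁻¹) :=
    ((Commute.refl d).mul_left hc.symm).conj g
  rwa [hg.symm.eq, mul_inv_cancel_right] at h1

/-- Only central elements fix every class. -/
theorem mem_center_of_fix_all {n : G} (hn : ∀ e ∈ D, Fix R n e) : n ∈ Subgroup.center G := by
  let K : Subgroup G :=
    { carrier := {g | ∀ e ∈ D, Fix R g e}
      one_mem' := fun e _ => h.fix_of_commute (Commute.one_left e)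
      mul_mem' := fun ha hb e he => h.fix_mul (ha e he) (hb e he)
      inv_mem' := fun ha e he => h.fix_inv (ha e he) }
  haveI hK : K.Normal := ⟨fun g hg k e he => by
    have h1 := hg (k⁻¹ * e * k) (by simpa using h.root.conj_mem e he k⁻¹)
    rwa [← h.fix_conj_iff k, show k * (k⁻¹ * e * k) * k⁻¹ = e by group] at h1⟩
  have hnK : n ∈ K := hn
  have hKD : ∀ y ∈ K, y ∉ D := fun y hy hyD => by
    obtain ⟨e, he, hye⟩ := h.exists_not_rel y
    exact hye (h.rel_of_fix hyD he (hy e he))
  haveI : (Subgroup.closure D).Normal := by rw [h.root.generates]; infer_instance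
  rw [Subgroup.mem_center_iff]
  intro g
  suffices key : ∀ d ∈ D, Commute n d by
    have hg : g ∈ Subgroup.centralizer ({n} : Set G) := by
      have : Subgroup.closure D ≤ Subgroup.centralizer ({n} : Set G) :=
        (Subgroup.closure_le _).2 fun d hd =>
          Subgroup.mem_centralizer_singleton_iff.2 (key d hd).symm.eq
      exact this (h.root.generates ▸ Subgroup.mem_top g)
    exact Subgroup.mem_centralizer_singleton_iff.1 hg
  intro d hd
  obtain ⟨p, ht⟩ := h.exists_tri hd
  have hstab : ∀ {x : G}, x ∈ D → ∀ y ∈ K, x * y * x ∈ K := fun {x} hx y hy => by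
    simpa [inv_eq h.root hx] using hK.conj_mem y hy x
  have hdd : ∀ m ∈ K, Commute d (m * d * m⁻¹) := fun m hm =>
    Tri.commute_conj h.root ht hKD (hstab hd) (hstab ht.right) hm
  have hcc : ∀ m ∈ K, ∀ l ∈ K, Commute (l * d * l⁻¹) (m * d * m⁻¹) := fun m hm l hl => by
    have h1 := (hdd (l⁻¹ * m) (mul_mem (inv_mem hl) hm)).conj l
    rwa [show l * (l⁻¹ * m * d * (l⁻¹ * m)⁻¹) * l⁻¹ = m * d * m⁻¹ by group] at h1
  -- the products of two conjugates form a normal 2-subgroup of the kernel
  let S : Set K := {y | ∃ m ∈ K, ∃ l ∈ K, (y : G) = m * d * m⁻¹ * (l * d * l⁻¹)}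
  have hSn : ∀ y ∈ S, ∀ k : K, k * y * k⁻¹ ∈ S := by
    rintro y ⟨m, hm, l, hl, hy⟩ ⟨k, hk⟩
    refine ⟨k * m, mul_mem hk hm, k * l, mul_mem hk hl, ?_⟩
    simp only [Subgroup.coe_mul, Subgroup.coe_inv, hy]
    group
  haveI hN : (Subgroup.closure S).Normal := ⟨fun y hy k => by
    induction hy using Subgroup.closure_induction with
    | mem y hy => exact Subgroup.subset_closure (hSn y hy k)
    | one => simp
    | mul a b _ _ ha hb => simpa [mul_assoc] using mul_mem ha hb
    | inv a _ ha => simpa [mul_assoc] using inv_mem ha⟩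
  have hsq : ∀ y ∈ Subgroup.closure S, y ^ 2 = 1 ∧
      ∀ l ∈ K, Commute (y : G) (l * d * l⁻¹) := by
    intro y hy
    induction hy using Subgroup.closure_induction with
    | mem y hy =>
      obtain ⟨m, hm, l, hl, hy⟩ := hy
      refine ⟨Subtype.ext ?_, fun l' hl' => hy ▸ (hcc l' hl' m hm).mul_left (hcc l' hl' l hl)⟩
      simp only [pow_two, Subgroup.coe_mul, Subgroup.coe_one, hy]
      rw [(hcc m hm l hl).mul_mul_mul_comm, sq_one h.root (h.root.conj_mem d hd m),
        sq_one h.root (h.root.conj_mem d hd l), one_mul]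
    | one => exact ⟨one_pow _, fun l _ => Commute.one_left _⟩
    | mul a b ha hb iha ihb =>
      refine ⟨?_, fun l hl => (iha.2 l hl).mul_left (ihb.2 l hl)⟩
      have hab : Commute a b := Subtype.ext (by
        clear ihb
        induction hb using Subgroup.closure_induction with
        | mem y hy =>
          obtain ⟨m, hm, l, hl, hy⟩ := hy
          simp only [Subgroup.coe_mul, hy]
          exact ((iha.2 m hm).mul_right (iha.2 l hl)).eq
        | one => simp
        | mul x y _ _ hx hy => exact ((Commute.mul_right hx hy : Commute (a : G) (x * y))).eq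
        | inv x _ hx => exact (Commute.inv_right hx : Commute (a : G) (x : G)⁻¹).eq)
      rw [hab.mul_pow, iha.1, ihb.1, one_mul]
    | inv a _ iha => exact ⟨by rw [inv_pow, iha.1, inv_one], fun l hl => (iha.2 l hl).inv_left⟩
  have hS2 : IsPGroup 2 (Subgroup.closure S) := fun y =>
    ⟨1, Subtype.ext (by simpa using (hsq y y.2).1)⟩
  have hbot : (pCore 2 K).map K.subtype = ⊥ := by
    rw [eq_bot_iff, ← h.o2]
    exact Solvable.Cores.le_pCore ((Solvable.Cores.isPGroup_pCore 2).map _)
  rw [Subgroup.map_eq_bot_iff_of_injective _ K.subtype_injective] at hbot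
  have hc : (⟨n * d * n⁻¹ * d, by
      simpa [mul_assoc] using mul_mem hnK (hstab hd _ (inv_mem hnK))⟩ : K) ∈ Subgroup.closure S :=
    Subgroup.subset_closure ⟨n, hnK, 1, one_mem _, by simp⟩
  have h1 := Solvable.Cores.le_pCore hS2 hc
  rw [hbot, Subgroup.mem_bot, Subtype.ext_iff] at h1
  have h2 : n * d * n⁻¹ = d := (eq_inv_of_mul_eq_one_left h1).trans (inv_eq h.root hd)
  exact mul_inv_eq_iff_eq_mul.1 h2

/-- An involution moves some class. -/
theorem exists_moved {u : G} (hu : u * u = 1) (hu1 : u ≠ 1) : ∃ p ∈ D, ¬ Fix R u p := by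
  by_contra hcon
  push Not at hcon
  have hc := Subgroup.mem_center_iff.1 (h.mem_center_of_fix_all hcon)
  haveI : (Subgroup.zpowers u).Normal := ⟨fun x hx g => by
    obtain ⟨k, rfl⟩ := hx
    exact ⟨k, (mul_inv_eq_iff_eq_mul.2 ((show Commute g u from hc g).zpow_right k).eq).symm⟩⟩
  have h2 : IsPGroup 2 (Subgroup.zpowers u) := fun y => ⟨1, Subtype.ext (by
    obtain ⟨k, hk⟩ := y.2
    simp only [pow_one, Subgroup.coe_pow, ← hk, Subgroup.coe_one]
    rw [← zpow_natCast, ← zpow_mul, mul_comm, zpow_mul, zpow_natCast, pow_two, hu, one_zpow])⟩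
  have h1 := Solvable.Cores.le_pCore h2 (Subgroup.mem_zpowers u)
  rw [h.o2] at h1
  exact hu1 h1

end Setup

end CfsgLib.LocalEven.RootReduction
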