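import Cfsg.Agent.Lib.LocalEven.RootReduction.Main
import Cfsg.Agent.Lib.LocalEven.TIEndgame.Setup

/-!
# The action on the classes

In a setting the members of a class with `1` form a subgroup. The group modulo its centre acts
faithfully on the classes, and these subgroups give a TI setting.
-/

set_option autoImplicit false
set_option linter.style.haveILetI false

namespace CfsgLib.LocalEven.RootReduction

open Cfsg CfsgLib.Perm.RootInvolution CfsgLib.LocalEven.TIEndgame

variable {G : Type*} [Group G] {D : Set G} {R : G → G → Prop}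

namespace Setup

variable (h : Setup D R)
include h

/-- Relatedness of members. -/
def classSetoid : Setoid D where
  r a b := R a b
  iseqv := ⟨fun a => h.refl a, fun e => h.symm e, fun e e' => h.trans e e'⟩

/-- The classes. -/
abbrev Point : Type _ := Quotient h.classSetoid

/-- Conjugation on the classes. -/
@[reducible] def classAction : MulAction G h.Point where
  smul g := Quotient.map (fun d : D => (⟨g * d * g⁻¹, h.root.conj_mem d d.2 g⟩ : D))
    fun _ _ e => h.conj g e
  one_smul q := by
    induction q using Quotient.inductionOn with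
    | h d => exact congrArg (Quotient.mk _) (Subtype.ext (by simp))
  mul_smul g g' q := by
    induction q using Quotient.inductionOn with
    | h d => exact congrArg (Quotient.mk _) (Subtype.ext (by simp [mul_assoc]))

theorem center_le_ker :
    Subgroup.center G ≤ (@MulAction.toPermHom G h.Point _ h.classAction).ker := by
  intro z hz
  refine MonoidHom.mem_ker.2 (Equiv.ext fun q => ?_)
  induction q using Quotient.inductionOn with
  | h d =>
    exact congrArg (Quotient.mk _) (Subtype.ext (by
      show z * (d : G) * z⁻¹ = d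
      rw [← Subgroup.mem_center_iff.1 hz d, mul_inv_cancel_right]))

/-- The action of the group modulo its centre on the classes. -/
@[reducible] noncomputable def centralAction : MulAction (G ⧸ Subgroup.center G) h.Point :=
  MulAction.compHom h.Point (QuotientGroup.lift (Subgroup.center G)
    (@MulAction.toPermHom G h.Point _ h.classAction) h.center_le_ker)

theorem smul_mk (g : G) (d : D) :
    (@HSMul.hSMul _ _ _ (@instHSMul _ _ h.centralAction.toSMul)
      (QuotientGroup.mk' (Subgroup.center G) g) (Quotient.mk h.classSetoid d : h.Point)) =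
      Quotient.mk h.classSetoid ⟨g * d * g⁻¹, h.root.conj_mem d d.2 g⟩ :=
  rfl

variable [Finite G]

/-- The members of a class together with `1`. -/
def classGroup (a : D) : Subgroup G where
  carrier := {x | x = 1 ∨ (x ∈ D ∧ R a x)}
  one_mem' := Or.inl rfl
  mul_mem' := by
    rintro x y (rfl | ⟨hx, hax⟩) (rfl | ⟨hy, hay⟩)
    · exact Or.inl (one_mul 1)
    · exact Or.inr ⟨by rwa [one_mul], by rwa [one_mul]⟩
    · exact Or.inr ⟨by rwa [mul_one], by rwa [mul_one]⟩
    · by_cases hxy : x = y
      · exact Or.inl (hxy ▸ sq_one h.root hx)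
      · have hc := h.commutes x hx y hy (h.trans (h.symm hax) hay)
        have hm := h.mul_mem_of_commute hx hy hc hxy
        exact Or.inr ⟨hm, h.trans hax
          (h.of_commute hx hm ((Commute.refl x).mul_right hc))⟩
  inv_mem' := by
    rintro x (rfl | ⟨hx, hax⟩)
    · exact Or.inl inv_one
    · exact Or.inr ⟨(inv_eq h.root hx).symm ▸ hx, (inv_eq h.root hx).symm ▸ hax⟩

theorem mem_classGroup {a : D} {x : G} : x ∈ h.classGroup a ↔ x = 1 ∨ (x ∈ D ∧ R a x) :=
  Iff.rfl

/-- The subgroups attached to the classes, modulo the centre. -/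
noncomputable def pointGroup : h.Point → Subgroup (G ⧸ Subgroup.center G) :=
  Quotient.lift (fun a => (h.classGroup a).map (QuotientGroup.mk' (Subgroup.center G)))
    fun a b e => congrArg (Subgroup.map _) (SetLike.ext fun x => by
      rw [h.mem_classGroup, h.mem_classGroup]
      exact or_congr_right (and_congr_right fun _ =>
        ⟨fun e' => h.trans (h.symm e) e', fun e' => h.trans e e'⟩))

theorem mk_member_ne_one {d : G} (hd : d ∈ D) :
    QuotientGroup.mk' (Subgroup.center G) d ≠ 1 := fun e =>
  ne_one h.root hd (h.eq_one_of_central ((QuotientGroup.eq_one_iff d).1 e) (sq_one h.root hd))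

/-- The TI setting on the classes. -/
theorem tiSetting : @TISetting _ _ _ h.centralAction h.pointGroup := by
  letI := h.centralAction
  refine ⟨?_, ?_, ?_, ?_, ?_⟩
  · intro q y hy
    induction q using Quotient.inductionOn with
    | h a =>
      obtain ⟨x, hx, rfl⟩ := hy
      rcases hx with rfl | ⟨hxD, -⟩
      · rw [map_one, one_mul]
      · rw [← map_mul, sq_one h.root hxD, map_one]
  · intro q y hy
    induction q using Quotient.inductionOn with
    | h a =>
      obtain ⟨x, hx, rfl⟩ := hy
      refine MulAction.mem_stabilizer_iff.2 ((h.smul_mk x a).trans (Quotient.sound ?_))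
      rcases hx with rfl | ⟨-, hax⟩
      · exact (show R ((1 : G) * a * (1 : G)⁻¹) a by simpa using h.refl (a : G))
      · exact h.fix_of_commute_rel (Commute.refl x) (h.symm hax)
  · intro q y hy hy1 r hr
    induction q using Quotient.inductionOn with
    | h a =>
      induction r using Quotient.inductionOn with
      | h c =>
        obtain ⟨x, hx, rfl⟩ := hy
        rcases hx with rfl | ⟨hxD, hax⟩
        · exact absurd (map_one _) hy1
        · rw [h.smul_mk] at hr
          exact Quotient.sound (h.trans (h.symm (h.rel_of_fix hxD c.2 (Quotient.exact hr)))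
            (h.symm hax))
  · intro g q y hy
    induction q using Quotient.inductionOn with
    | h a =>
      obtain ⟨g, rfl⟩ := QuotientGroup.mk'_surjective (Subgroup.center G) g
      obtain ⟨x, hx, rfl⟩ := hy
      rw [h.smul_mk, ← map_inv, ← map_mul, ← map_mul]
      refine ⟨g * x * g⁻¹, ?_, rfl⟩
      rcases hx with rfl | ⟨hxD, hax⟩
      · exact Or.inl (by simp)
      · exact Or.inr ⟨h.root.conj_mem x hxD g, h.conj g hax⟩
  · intro q
    induction q using Quotient.inductionOn with
    | h a =>
      intro e
      exact h.mk_member_ne_one a.2 (Subgroup.mem_bot.1 (e ▸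
        (⟨(a : G), Or.inr ⟨a.2, h.refl _⟩, rfl⟩ :
          QuotientGroup.mk' (Subgroup.center G) (a : G) ∈
            (h.classGroup a).map (QuotientGroup.mk' (Subgroup.center G)))))

/-- The members generate. -/
theorem closure_members : Subgroup.closure (members h.pointGroup) = ⊤ := by
  rw [eq_top_iff, ← MonoidHom.range_eq_top.2 (QuotientGroup.mk'_surjective (Subgroup.center G)),
    MonoidHom.range_eq_map, ← h.root.generates, MonoidHom.map_closure]
  refine Subgroup.closure_mono ?_
  rintro _ ⟨d, hd, rfl⟩
  exact ⟨h.mk_member_ne_one hd, Quotient.mk h.classSetoid ⟨d, hd⟩,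
    ⟨d, Or.inr ⟨hd, h.refl _⟩, rfl⟩⟩

theorem centralAction_faithful : @FaithfulSMul _ h.Point h.centralAction.toSMul := by
  letI := h.centralAction
  refine ⟨fun {y₁ y₂} e => ?_⟩
  obtain ⟨g₁, rfl⟩ := QuotientGroup.mk'_surjective (Subgroup.center G) y₁
  obtain ⟨g₂, rfl⟩ := QuotientGroup.mk'_surjective (Subgroup.center G) y₂
  refine QuotientGroup.eq.2 (h.mem_center_of_fix_all fun d hd => ?_)
  have he := Quotient.exact (((h.smul_mk g₁ ⟨d, hd⟩).symm.trans (e _)).trans (h.smul_mk g₂ ⟨d, hd⟩))
  have h1 : R (g₁⁻¹ * (g₂ * d * g₂⁻¹) * g₁⁻¹⁻¹) (g₁⁻¹ * (g₁ * d * g₁⁻¹) * g₁⁻¹⁻¹) :=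
    h.conj g₁⁻¹ (h.symm he)
  rwa [show g₁⁻¹ * (g₂ * d * g₂⁻¹) * g₁⁻¹⁻¹ = g₁⁻¹ * g₂ * d * (g₁⁻¹ * g₂)⁻¹ by group,
    show g₁⁻¹ * (g₁ * d * g₁⁻¹) * g₁⁻¹⁻¹ = d by group] at h1

end Setup

end CfsgLib.LocalEven.RootReduction
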