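import Cfsg.Agent.Lib.Perm.RootInvolution
import Cfsg.Agent.Lib.Involution.BaerSuzuki
import Cfsg.Agent.Lib.Solvable.Cores

/-!
# Sets of members without odd pairs, and two counting lemmas

An invariant set of members without odd pairs generates a 2-group; properties pass down to such a set
along squares of products. A set invariant under conjugation by a 2-group, of size not divisible by
four, has an element with centraliser of index at most two.
-/

set_option autoImplicit false

namespace CfsgLib.LocalEven.RootReduction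

open Cfsg CfsgLib.Perm.RootInvolution
open scoped Pointwise

variable {G : Type*} [Group G] [Finite G]

theorem isPGroup_closure_of_no_odd {D Δ : Set G} (hD : IsRootInvolutionSet D) (hΔ : Δ ⊆ D)
    (hinv : ∀ a ∈ Δ, ∀ g ∈ Subgroup.closure Δ, g * a * g⁻¹ ∈ Δ)
    (hno : ∀ a ∈ Δ, ∀ b ∈ Δ, ¬ OddAdj D a b) : IsPGroup 2 (Subgroup.closure Δ) := by
  let K := Subgroup.closure Δ
  refine ((Solvable.Cores.isPGroup_pCore (G := K) 2).map K.subtype).to_le
    ((Subgroup.closure_le _).2 fun a ha => ⟨⟨a, Subgroup.subset_closure ha⟩, ?_, rfl⟩)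
  by_contra hcon
  obtain ⟨⟨g, hg⟩, hg1, hodd, hinvg⟩ := CfsgLib.Involution.BaerSuzuki.exists_inverted_odd
    (⟨a, Subgroup.subset_closure ha⟩ : K)
    (by rw [Subgroup.orderOf_mk]; exact hD.orderOf_eq a (hΔ ha))
    (fun N hN hN2 hmem => hcon (@Solvable.Cores.le_pCore _ _ 2 N hN hN2 _ hmem))
  rw [Subgroup.orderOf_mk] at hodd
  have hga : a * g * a = g⁻¹ := by
    have h1 := congrArg Subtype.val hinvg
    simpa [inv_eq hD (hΔ ha)] using h1
  have hprod : a * (g * a * g⁻¹) = g⁻¹ ^ 2 := by rw [pow_two, ← mul_assoc, ← mul_assoc, hga]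
  have hord : orderOf (g⁻¹ ^ 2) = orderOf g := by
    rw [orderOf_pow' _ two_ne_zero, orderOf_inv, Nat.coprime_two_right.2 hodd, Nat.div_one]
  refine hno a ha _ (hinv a ha g hg) ⟨hΔ ha, hD.conj_mem a (hΔ ha) g, fun e => ?_, ?_⟩
  · rw [← e, sq_one hD (hΔ ha)] at hprod
    rw [← hprod, orderOf_one] at hord
    exact hg1 (Subtype.ext (orderOf_eq_one_iff.1 hord.symm))
  · rw [hprod, hord]; exact hodd

/-- A property that passes down from the squares of products holds on the whole set. -/
theorem descend {D Δ : Set G} (hD : IsRootInvolutionSet D) (hΔ : Δ ⊆ D)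
    (hp : IsPGroup 2 (Subgroup.closure Δ))
    (hsq : ∀ c ∈ Δ, ∀ b ∈ Δ, ¬ Commute c b → c * b * c * b ∈ Δ) {P : G → Prop}
    (step : ∀ c ∈ Δ, (∀ b ∈ Δ, ¬ Commute c b → P (c * b * c * b)) → P c) :
    ∀ c ∈ Δ, P c := by
  haveI : Fact (Nat.Prime 2) := ⟨Nat.prime_two⟩
  obtain ⟨n, hn⟩ := (Subgroup.isNilpotent_iff_lowerCentralSeries (S := Subgroup.closure Δ)).1
    hp.isNilpotent
  suffices key : ∀ k, ∀ c ∈ Δ, c ∈ (Subgroup.closure Δ).lowerCentralSeries (n - k) → P c by
    intro c hc
    refine key n c hc ?_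
    rw [Nat.sub_self]
    exact Subgroup.subset_closure hc
  intro k
  induction k with
  | zero =>
    intro c hc hm
    rw [Nat.sub_zero, hn] at hm
    exact absurd hm (ne_one hD (hΔ hc))
  | succ k ih =>
    intro c hc hm
    refine step c hc fun b hb hcb => ih _ (hsq c hc b hb hcb) ?_
    by_cases hk : n - k = 0
    · rw [hk]; exact Subgroup.subset_closure (hsq c hc b hb hcb)
    rw [show n - k = n - (k + 1) + 1 by omega, Subgroup.lowerCentralSeries_succ]
    have h1 := Subgroup.commutator_mem_commutator hm (Subgroup.subset_closure hb : b ∈ Subgroup.closure Δ)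
    rwa [commutatorElement_def, inv_eq hD (hΔ hc), inv_eq hD (hΔ hb)] at h1

theorem even_ncard_of_involution {α : Type*} [Finite α] {s : Set α} (f : α → α)
    (hmem : ∀ x ∈ s, f x ∈ s) (hinv : ∀ x ∈ s, f (f x) = x) (hfree : ∀ x ∈ s, f x ≠ x) :
    Even s.ncard := by
  classical
  haveI := Fintype.ofFinite α
  have h : ∑ _x ∈ s.toFinset, (1 : ZMod 2) = 0 := Finset.sum_involution (fun x _ => f x)
    (fun x _ => by decide) (fun x hx _ => hfree x (Set.mem_toFinset.1 hx))
    (fun x hx => Set.mem_toFinset.2 (hmem x (Set.mem_toFinset.1 hx)))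
    (fun x hx => hinv x (Set.mem_toFinset.1 hx))
  rw [Finset.sum_const, nsmul_one, ZMod.natCast_eq_zero_iff_even] at h
  rwa [Set.ncard_eq_toFinset_card']

/-- A set invariant under right multiplication by a subgroup is a union of cosets. -/
theorem card_dvd_ncard (W : Subgroup G) {s : Set G} (h : ∀ x ∈ s, ∀ w ∈ W, x * w ∈ s) :
    Nat.card W ∣ s.ncard := by
  have hs : s * (W : Set G) = s := Set.Subset.antisymm
    (by rintro _ ⟨x, hx, w, hw, rfl⟩; exact h x hx w hw)
    fun x hx => ⟨x, hx, 1, one_mem W, mul_one x⟩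
  have h1 := Subgroup.card_mul_eq_card_subgroup_mul_card_quotient W s
  rw [hs, Nat.card_coe_set_eq] at h1
  exact Dvd.intro _ h1.symm

/-- A set invariant under a 2-group, of size not divisible by four, has an element whose centraliser
in the group has index at most two. -/
theorem exists_small_orbit {S : Subgroup G} (hS : IsPGroup 2 S) {N : Set G}
    (hN : ∀ q ∈ N, ∀ s ∈ S, s * q * s⁻¹ ∈ N) (h4 : ¬ 4 ∣ N.ncard) :
    ∃ q ∈ N, (Subgroup.centralizer ({q} : Set G)).relIndex S ≤ 2 := by
  classical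
  haveI : Fact (Nat.Prime 2) := ⟨Nat.prime_two⟩
  letI : MulAction S N :=
    { smul := fun s x => ⟨(s : G) * x * (s : G)⁻¹, hN x x.2 s s.2⟩
      one_smul := fun x => Subtype.ext (show ((1 : S) : G) * (x : G) * ((1 : S) : G)⁻¹ = x by simp)
      mul_smul := fun a b x => Subtype.ext (show ((a * b : S) : G) * (x : G) * ((a * b : S) : G)⁻¹ =
        (a : G) * ((b : G) * x * (b : G)⁻¹) * (a : G)⁻¹ by simp [mul_assoc]) }
  by_contra hcon
  push Not at hcon
  apply h4
  haveI := Fintype.ofFinite (Quotient (MulAction.orbitRel S N))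
  rw [← Nat.card_coe_set_eq, Nat.card_congr (MulAction.selfEquivSigmaOrbits S N), Nat.card_sigma]
  refine Finset.dvd_sum fun w _ => ?_
  obtain ⟨q, hq⟩ := w.out
  have hstab : MulAction.stabilizer S (⟨q, hq⟩ : N) =
      (Subgroup.centralizer ({q} : Set G)).subgroupOf S := by
    ext s
    rw [MulAction.mem_stabilizer_iff, Subgroup.mem_subgroupOf, Subgroup.mem_centralizer_singleton_iff,
      Subtype.ext_iff]
    exact mul_inv_eq_iff_eq_mul
  have hcard : Nat.card (MulAction.orbit S (⟨q, hq⟩ : N)) =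
      (Subgroup.centralizer ({q} : Set G)).relIndex S := by
    rw [Nat.card_congr (MulAction.orbitEquivQuotientStabilizer S _), hstab]
    rfl
  rw [hcard]
  have h3 := hcon q hq
  obtain ⟨k, hk⟩ := hS.index ((Subgroup.centralizer ({q} : Set G)).subgroupOf S)
  change _ = _ at hk
  rw [Subgroup.relIndex, hk] at h3 ⊢
  have hk2 : 2 ≤ k := by
    by_contra hlt
    have : k = 0 ∨ k = 1 := by omega
    rcases this with rfl | rfl <;> simp at h3
  exact (show (4 : ℕ) = 2 ^ 2 by norm_num) ▸ Nat.pow_dvd_pow 2 hk2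

end CfsgLib.LocalEven.RootReduction
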