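import Cfsg.Agent.Lib.LocalEven.RootReduction.Bad
import Cfsg.Agent.Lib.LocalEven.RootReduction.Closure

/-!
# A bad involution centralising a commuting pair

By induction, applied to the group generated by the members commuting with a bad involution modulo its
largest normal 2-subgroup with the induced relation, related such members commute. If two of them
commute, this excludes odd pairs inside a class, so a class generates a 2-group and then commutes.
-/

set_option autoImplicit false
set_option linter.style.haveILetI false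

namespace CfsgLib.LocalEven.RootReduction

open Cfsg CfsgLib.Perm.RootInvolution

universe u

variable {G : Type u} [Group G] [Finite G] {D : Set G} {R : G → G → Prop}

namespace Setup

variable (h : Setup D R) (ih : CommutesBelow.{u} (Nat.card G))
include h ih

/-- Related members commuting with such a bad involution commute. -/
theorem commute_centred {v t p : G} (hv : Bad D R v) (ht : t ∈ D) (hp : p ∈ D) (htp : Commute t p)
    (hne : t ≠ p) (hvt : Commute v t) (hvp : Commute v p) {a b : G} (ha : a ∈ D) (hb : b ∈ D)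
    (hva : Commute v a) (hvb : Commute v b) (hab : R a b) : Commute a b := by
  haveI : Fact (Nat.Prime 2) := ⟨Nat.prime_two⟩
  set X := Subgroup.closure {d | d ∈ D ∧ Commute v d} with hX
  have hmemX : ∀ {d : G}, d ∈ D → Commute v d → d ∈ X := fun h1 h2 =>
    Subgroup.subset_closure ⟨h1, h2⟩
  have hXv : ∀ {x : G}, x ∈ X → Commute v x := by
    intro x hx
    have hle : X ≤ Subgroup.centralizer ({v} : Set G) :=
      (Subgroup.closure_le _).2 fun d hd => Subgroup.mem_centralizer_singleton_iff.2 hd.2.symm.eq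
    exact (Subgroup.mem_centralizer_singleton_iff.1 (hle hx)).symm
  have hlt : Nat.card X < Nat.card G := by
    refine lt_of_le_of_ne (Subgroup.card_le_card_group X) fun e => ?_
    obtain ⟨q, hq, hmv⟩ := h.exists_moved hv.1 hv.2.1
    exact hmv (h.fix_of_commute (hXv (Subgroup.eq_top_of_card_eq X e ▸ Subgroup.mem_top q)))
  set N : Subgroup X := pCore 2 X with hN
  set π := QuotientGroup.mk' N
  have hN2 : IsPGroup 2 N := Solvable.Cores.isPGroup_pCore 2
  have hπ1 : ∀ {x : X}, π x = 1 ↔ x ∈ N := fun {x} => QuotientGroup.eq_one_iff x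
  -- odd pairs survive in the quotient
  have hodd : ∀ {x y : X}, (x : G) ∈ D → (y : G) ∈ D → Odd (orderOf ((x : G) * y)) →
      x * y * (x * y) ∈ N → Commute (x : G) y := by
    intro x y hxD hyD ho hmem
    obtain ⟨k, hk⟩ := hN2 ⟨_, hmem⟩
    have h1 : ((x : G) * y) ^ (2 * 2 ^ k) = 1 := by
      have h2 := congrArg (fun z : N => ((z : X) : G)) hk
      simp only [Subgroup.coe_pow, Subgroup.coe_mul, Subgroup.coe_one] at h2
      rwa [pow_mul, pow_two]
    rw [← pow_succ'] at h1
    have h3 := Nat.eq_one_of_dvd_coprimes (Nat.Coprime.pow_right (k + 1) (Nat.coprime_two_right.2 ho))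
      dvd_rfl (orderOf_dvd_of_pow_eq_one h1)
    rw [orderOf_eq_one_iff, mul_eq_one_iff_eq_inv, inv_eq h.root hyD] at h3
    rw [h3]
  have hrel : ∀ {x y : X}, (x : G) ∈ D → (y : G) ∈ D → Commute (π x) (π y) → R (x : G) y := by
    intro x y hxD hyD hc
    by_contra hn
    refine hn (h.of_commute hxD hyD (hodd hxD hyD (h.oddAdj hxD hyD hn).2.2.2 (hπ1.1 ?_)))
    have hx2 : π x * π x = 1 := by
      rw [← map_mul, show x * x = 1 from Subtype.ext (sq_one h.root hxD), map_one]
    have hy2 : π y * π y = 1 := by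
      rw [← map_mul, show y * y = 1 from Subtype.ext (sq_one h.root hyD), map_one]
    rw [map_mul, map_mul, hc.symm.mul_mul_mul_comm, hx2, hy2, one_mul]
  have hne1 : ∀ {x : X}, (x : G) ∈ D → π x ≠ 1 := by
    intro x hxD hx1
    obtain ⟨e, he, hxe, hve⟩ := h.exists_commute_outside hv x
    have hc : Commute (π x) (π ⟨e, hmemX he hve⟩) := hx1 ▸ Commute.one_left _
    exact hxe (hrel (x := x) (y := ⟨e, hmemX he hve⟩) hxD he hc)
  set E : Set (X ⧸ N) := π '' {x | (x : G) ∈ D} with hE
  let S : X ⧸ N → X ⧸ N → Prop := fun c d =>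
    c = d ∨ ∃ x y : X, (x : G) ∈ D ∧ (y : G) ∈ D ∧ π x = c ∧ π y = d ∧ R (x : G) y
  have hroot : IsRootInvolutionSet E := by
    refine ⟨?_, ?_, ?_, ?_⟩
    · rintro _ ⟨x, hx, rfl⟩
      refine CfsgLib.Involution.Dihedral.orderOf_eq_two ?_ (hne1 hx)
      rw [← map_mul, show x * x = 1 from Subtype.ext (sq_one h.root hx), map_one]
    · have hgen : Subgroup.closure {x : X | (x : G) ∈ D} = ⊤ := by
        rw [eq_top_iff]
        have hsub : (((↑) : X → G) ⁻¹' {d | d ∈ D ∧ Commute v d}) ⊆ {x : X | (x : G) ∈ D} :=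
          fun x hx => hx.1
        refine le_trans ?_ (Subgroup.closure_mono hsub)
        rw [hX, Subgroup.closure_closure_coe_preimage]
      rw [hE, ← MonoidHom.map_closure, hgen,
        Subgroup.map_top_of_surjective _ (QuotientGroup.mk'_surjective N)]
    · rintro _ ⟨x, hx, rfl⟩ g
      obtain ⟨k, rfl⟩ := QuotientGroup.mk'_surjective N g
      exact ⟨k * x * k⁻¹, h.root.conj_mem x hx k, by simp only [map_mul, map_inv]; rfl⟩
    · rintro _ ⟨x, hx, rfl⟩ _ ⟨y, hy, rfl⟩
      have hord : orderOf (π x * π y) ∣ orderOf ((x : G) * y) := by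
        rw [← map_mul, ← Subgroup.coe_mul, Subgroup.orderOf_coe]
        exact orderOf_map_dvd π (x * y)
      rcases h.root.pair _ hx _ hy with e | e | ⟨e, e'⟩
      · left
        rw [← map_mul, ← map_mul, show x * y = y * x from Subtype.ext e]
      · exact Or.inr (Or.inl (Odd.of_dvd_nat e hord))
      · have hq : ((x * y) ^ 2 : X).1 ∈ D := by simpa using e'
        have h2 : ¬ (π x * π y) ^ 2 ^ 1 = 1 := by
          rw [pow_one, ← map_mul, ← map_pow]
          exact hne1 hq
        have h4 : (π x * π y) ^ 2 ^ (1 + 1) = 1 :=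
          orderOf_dvd_iff_pow_eq_one.1 (hord.trans (e ▸ (by norm_num)))
        refine Or.inr (Or.inr ⟨by rw [orderOf_eq_prime_pow h2 h4]; norm_num, ?_⟩)
        exact ⟨(x * y) ^ 2, hq, by rw [map_pow, map_mul]⟩
  have hS : Setup E S := by
    refine ⟨hroot, ?_, fun c => Or.inl rfl, ?_, ?_, ?_, ?_, ?_, ?_⟩
    · have htp' : t * p ∈ D := h.mul_mem_of_commute ht hp htp hne
      refine ⟨π ⟨t, hmemX ht hvt⟩, π ⟨p, hmemX hp hvp⟩, ⟨_, ht, rfl⟩, ⟨_, hp, rfl⟩,
        (show Commute (⟨t, hmemX ht hvt⟩ : X) ⟨p, hmemX hp hvp⟩ from Subtype.ext htp).map π, ?_⟩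
      rw [← map_mul]
      exact ⟨_, htp', rfl⟩
    · rintro c d (rfl | ⟨x, y, hx, hy, rfl, rfl, hr⟩)
      exacts [Or.inl rfl, Or.inr ⟨y, x, hy, hx, rfl, rfl, h.symm hr⟩]
    · rintro c d e (rfl | ⟨x, y, hx, hy, rfl, rfl, hr⟩) h2
      · exact h2
      rcases h2 with rfl | ⟨y', w, hy', hw, he, rfl, hr'⟩
      · exact Or.inr ⟨x, y, hx, hy, rfl, rfl, hr⟩
      · exact Or.inr ⟨x, w, hx, hw, rfl, rfl,
          h.trans hr (h.trans (hrel hy hy' (he ▸ Commute.refl _)) hr')⟩
    · rintro c d g (rfl | ⟨x, y, hx, hy, rfl, rfl, hr⟩)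
      · exact Or.inl rfl
      obtain ⟨k, rfl⟩ := QuotientGroup.mk'_surjective N g
      exact Or.inr ⟨k * x * k⁻¹, k * y * k⁻¹, h.root.conj_mem _ hx k, h.root.conj_mem _ hy k,
        by simp only [map_mul, map_inv]; rfl, by simp only [map_mul, map_inv]; rfl, h.conj k hr⟩
    · rintro _ _ ⟨x, hx, rfl⟩ ⟨y, hy, rfl⟩ hc
      exact Or.inr ⟨x, y, hx, hy, rfl, rfl, hrel hx hy hc⟩
    · obtain ⟨e, he, hte, hve⟩ := h.exists_commute_outside hv t
      refine ⟨π ⟨t, hmemX ht hvt⟩, ⟨_, ht, rfl⟩, π ⟨e, hmemX he hve⟩, ⟨_, he, rfl⟩, ?_⟩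
      rintro (e' | ⟨x, y, hx, hy, hxe, hye, hr⟩)
      · exact hte (hrel (x := ⟨t, hmemX ht hvt⟩) (y := ⟨e, hmemX he hve⟩) ht he (e' ▸ Commute.refl _))
      · exact hte (h.trans (h.trans (hrel (x := ⟨t, hmemX ht hvt⟩) ht hx (hxe ▸ Commute.refl _)) hr)
          (hrel (y := ⟨e, hmemX he hve⟩) hy he (hye ▸ Commute.refl _)))
    · rw [eq_bot_iff, ← Subgroup.map_comap_eq_self_of_surjective (QuotientGroup.mk'_surjective N)
        (pCore 2 (X ⧸ N))]
      refine (Subgroup.map_mono (show (pCore 2 (X ⧸ N)).comap π ≤ N from Solvable.Cores.le_pCore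
        (p := 2) ((Solvable.Cores.isPGroup_pCore 2).comap_of_ker_isPGroup π
          (by rw [QuotientGroup.ker_mk']; exact hN2)))).trans ?_
      exact (QuotientGroup.map_mk'_self N).le
  have hsmall : Nat.card (X ⧸ N) < Nat.card G :=
    lt_of_le_of_lt (Nat.card_le_card_of_surjective _ (QuotientGroup.mk'_surjective N)) hlt
  obtain ⟨x, hxv⟩ : ∃ x : X, (x : G) = a := ⟨⟨a, hmemX ha hva⟩, rfl⟩
  obtain ⟨y, hyv⟩ : ∃ y : X, (y : G) = b := ⟨⟨b, hmemX hb hvb⟩, rfl⟩
  subst hxv hyv
  have hc : Commute (π x) (π y) := ih (X ⧸ N) E S hsmall hS _ ⟨x, ha, rfl⟩ _ ⟨y, hb, rfl⟩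
    (Or.inr ⟨x, y, ha, hb, rfl, rfl, hab⟩)
  have hmem : x * y * (x * y) ∈ N := by
    refine hπ1.1 ?_
    rw [map_mul, map_mul, hc.symm.mul_mul_mul_comm, ← map_mul, ← map_mul,
      show x * x = 1 from Subtype.ext (sq_one h.root ha),
      show y * y = 1 from Subtype.ext (sq_one h.root hb), map_one, one_mul]
  by_contra hnc
  rcases h.root.pair _ ha _ hb with e | e | ⟨-, e'⟩
  · exact hnc e
  · exact hnc (hodd ha hb e hmem)
  · exact hne1 (x := x * y * (x * y)) (by simpa [pow_two] using e') (hπ1.2 hmem)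

/-- A bad involution centralising a commuting pair forces classes to commute. -/
theorem commutes_of_bad_pair {v t p : G} (hv : Bad D R v) (ht : t ∈ D) (hp : p ∈ D)
    (htp : Commute t p) (hne : t ≠ p) (hvt : Commute v t) (hvp : Commute v p) : Commutes D R := by
  have hclique := @commute_centred G _ _ D R h ih v t p hv ht hp htp hne hvt hvp
  have hvi : v⁻¹ = v := inv_eq_of_mul_eq_one_left hv.1
  -- no odd pair in the class of a member commuting with `v`
  have hno : ∀ z ∈ D, Commute v z → ∀ z' ∈ D, R z z' → ¬ OddAdj D z z' := by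
    intro z hz hvz z' hz' hzz ho
    have hnc := not_commute h.root ho
    have he : v * z' * v ∈ D := by simpa [hvi] using h.root.conj_mem z' hz' v
    have hswap : v * (v * z' * v) * v = z' := by
      rw [← mul_assoc, ← mul_assoc, hv.1, one_mul, mul_assoc, hv.1, mul_one]
    have hfix : ∀ {f : G}, v * f * v = f → Commute v f := fun {f} hf =>
      mul_inv_eq_iff_eq_mul.1 (by rwa [hvi])
    have hr : R z' (v * z' * v) := by
      refine h.trans (h.symm hzz) ?_
      have h1 := h.conj v hzz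
      rwa [hvi, show v * z * v = z by rw [hvz.eq, mul_assoc, hv.1, mul_one]] at h1
    generalize hz'' : v * z' * v = z'' at he hswap hr
    by_cases heq : z'' = z'
    · exact hnc (hclique hz hz' hvz (hfix (hz''.trans heq)) hzz)
    by_cases hc : Commute z' z''
    · have hm : z' * z'' ∈ D := h.mul_mem_of_commute hz' he hc (Ne.symm heq)
      have hvm : Commute v (z' * z'') := hfix (by
        calc v * (z' * z'') * v = v * z' * (v * v) * z'' * v := by
              rw [hv.1]; simp only [mul_one, mul_assoc]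
          _ = v * z' * v * (v * z'' * v) := by simp only [mul_assoc]
          _ = z' * z'' := by rw [hz'', hswap, hc.eq])
      have hmz' : Commute (z' * z'') z' := (Commute.refl z').mul_left hc.symm
      exact h.not_commute_oddAdj hm ho
        (hclique hm hz hvm hvz (h.trans (h.of_commute hm hz' hmz') (h.symm hzz))) hmz'
    by_cases ho' : OddAdj D z' z''
    · obtain ⟨f, hf, hfz, -, hw⟩ := exists_middle h.root ho'
      have hvf : Commute v f := hw v hv.1 hz''
      have hzf : R z f := h.trans hzz (h.symm (h.middle_rel hz' hf hfz hr))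
      obtain ⟨k, hkv, hkt⟩ := h.exists_conj_bad hv ht hz hvt hvz
      have hk : k * v * k⁻¹ = v := by rw [hkv.eq, mul_inv_cancel_right]
      have hq : k * p * k⁻¹ ∈ D := h.root.conj_mem p hp k
      have hvq : Commute v (k * p * k⁻¹) := hk ▸ hvp.conj k
      have hzq : Commute z (k * p * k⁻¹) := hkt ▸ htp.conj k
      have hzq' : z ≠ k * p * k⁻¹ := fun e => hne (by rw [← hkt] at e; simpa using e)
      have hfc : Commute f z := (hclique hz hf hvz hvf hzf).symm
      have hfq : Commute f (k * p * k⁻¹) := hclique hf hq hvf hvq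
        (h.trans (h.symm hzf) (h.of_commute hz hq hzq))
      have hwz' : Commute (v * f) z' := by
        refine mul_inv_eq_iff_eq_mul.1 ?_
        calc v * f * z' * (v * f)⁻¹ = v * (f * z' * f⁻¹) * v⁻¹ := by group
          _ = z' := by rw [hfz, hvi, hswap]
      exact hnc (@commute_centred G _ _ D R h ih (v * f) z _ (h.bad_mul hv hf hvf) hz hq hzq hzq'
        (hvz.mul_left hfc) (hvq.mul_left hfq) z z' hz hz' (hvz.mul_left hfc) hwz' hzz)
    obtain ⟨htm, -⟩ := tri_bracket h.root hz' he ho' hc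
    have hm : z' * z'' * z' * z'' ∈ D := htm.right
    have hinv : z'' * z' * z'' * z' = (z' * z'' * z' * z'')⁻¹ := by
      simp only [mul_inv_rev, inv_eq h.root hz', inv_eq h.root he, mul_assoc]
    have hvm : Commute v (z' * z'' * z' * z'') := hfix (by
      calc v * (z' * z'' * z' * z'') * v
          = v * z' * (v * v) * z'' * (v * v) * z' * (v * v) * z'' * v := by
            simp only [hv.1, mul_one, mul_assoc]
        _ = (v * z' * v) * (v * z'' * v) * (v * z' * v) * (v * z'' * v) := by simp only [mul_assoc]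
        _ = z' * z'' * z' * z'' := by rw [hz'', hswap, hinv, inv_eq h.root hm])
    exact h.not_commute_oddAdj hm ho (hclique hm hz hvm hvz
      (h.trans (h.of_commute hm hz' htm.comm.symm) (h.symm hzz))) htm.comm.symm
  have hno' : ∀ a ∈ D, ∀ b ∈ D, R a b → ¬ OddAdj D a b := by
    intro a ha b hb hab ho
    obtain ⟨g, hg⟩ := h.exists_conj ha ht
    exact hno t ht hvt (g * b * g⁻¹) (h.root.conj_mem b hb g) (hg ▸ h.conj g hab)
      (hg ▸ oddAdj_conj h.root ho g)
  intro a ha b hb hab
  set Δ : Set G := {x | x ∈ D ∧ R a x} with hΔdef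
  have hΔ : Δ ⊆ D := fun x hx => hx.1
  have hinvΔ : ∀ x ∈ Δ, ∀ g ∈ Subgroup.closure Δ, g * x * g⁻¹ ∈ Δ := by
    intro x hx g hg
    have hfixg : Fix R g a := by
      induction hg using Subgroup.closure_induction with
      | mem y hy => exact h.fix_of_commute_rel (Commute.refl y) (h.symm hy.2)
      | one => exact h.fix_of_commute (Commute.one_left a)
      | mul y y' _ _ h1 h2 => exact h.fix_mul h1 h2
      | inv y _ h1 => exact h.fix_inv h1
    exact ⟨h.root.conj_mem x hx.1 g, h.trans (h.symm hfixg) (h.conj g hx.2)⟩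
  have hnoΔ : ∀ x ∈ Δ, ∀ y ∈ Δ, ¬ OddAdj D x y := fun x hx y hy =>
    hno' x hx.1 y hy.1 (h.trans (h.symm hx.2) hy.2)
  have hsq : ∀ c ∈ Δ, ∀ d ∈ Δ, ¬ Commute c d → c * d * c * d ∈ Δ := fun c hc d hd hcd => by
    obtain ⟨htc, -⟩ := tri_bracket h.root hc.1 hd.1 (hnoΔ c hc d hd) hcd
    exact ⟨htc.right, h.trans hc.2 (h.of_commute hc.1 htc.right htc.comm)⟩
  obtain ⟨c, hc, hcen⟩ := descend (P := fun _ => ∃ c ∈ Δ, ∀ d ∈ Δ, Commute c d) h.root hΔ
    (isPGroup_closure_of_no_odd h.root hΔ hinvΔ hnoΔ) hsq (fun c hc hstep => by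
      by_cases hall : ∀ d ∈ Δ, Commute c d
      · exact ⟨c, hc, hall⟩
      · push Not at hall
        obtain ⟨d, hd, hcd⟩ := hall
        exact hstep d hd hcd) a ⟨ha, h.refl a⟩
  obtain ⟨e, he, hce⟩ := h.exists_not_rel c
  have hca : R c a := h.symm hc.2
  obtain ⟨g, -, hg, hgf⟩ := h.exists_centralizing hc.1 ha hca he hce (Commute.one_left c)
    (Commute.one_left a) (Commute.one_left e)
  have hb' : g⁻¹ * b * g ∈ Δ := by
    refine ⟨by simpa using h.root.conj_mem b hb g⁻¹, h.trans (h.symm hca) ((h.rel_conj_iff g).1 ?_)⟩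
    rw [hg, show g * (g⁻¹ * b * g) * g⁻¹ = b by group]
    exact hab
  have h1 := (hcen _ hb').conj g
  rwa [hg, show g * (g⁻¹ * b * g) * g⁻¹ = b by group] at h1

end Setup

end CfsgLib.LocalEven.RootReduction
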