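import Cfsg.Agent.Lib.LocalEven.RootReduction.Bad
import Cfsg.Agent.Lib.Perm.RootInvolutionProduct
import Cfsg.Agent.Lib.Components.SFT.Criterion

/-!
# The commuting graph of a non-degenerate class is connected

Modulo `O₂` a disconnected commuting graph gives a setting in which related members commute; an
order-four pair is related, so its square would lie in `O₂`.
-/

set_option autoImplicit false
set_option linter.style.haveILetI false

namespace CfsgLib.LocalEven.RootReduction

open Cfsg CfsgLib.Perm.RootInvolution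

universe u

/-- An element of odd order in a 2-group is trivial. -/
theorem eq_one_of_odd_of_mem {G : Type*} [Group G] {N : Subgroup G} (hN : IsPGroup 2 N) {x : G}
    (hx : x ∈ N) (ho : Odd (orderOf x)) : x = 1 := by
  obtain ⟨k, hk⟩ := hN ⟨x, hx⟩
  have h1 : x ^ 2 ^ k = 1 := congrArg Subtype.val hk
  exact orderOf_eq_one_iff.1 (Nat.eq_one_of_dvd_coprimes
    (Nat.Coprime.pow_right k (Nat.coprime_two_right.2 ho)) dvd_rfl (orderOf_dvd_of_pow_eq_one h1))

/-- The commuting graph of a non-degenerate class is connected, given that related members commute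
in every setting. -/
theorem commConnected_of_commutes
    (hmain : ∀ (G : Type u) [Group G] [Finite G] (D : Set G) (R : G → G → Prop),
      Setup D R → Commutes D R) : CommConnected.{u} := by
  intro G _ _ D hnd hcl
  classical
  obtain ⟨hD, -, ⟨x₁, hx₁, x₂, hx₂, hne₁, hodd₁⟩, ⟨a, ha, b, hb, h4⟩⟩ := hnd
  by_contra hcon
  haveI : Fact (Nat.Prime 2) := ⟨Nat.prime_two⟩
  set π := QuotientGroup.mk' (pCore 2 G) with hπ
  have h2 : IsPGroup 2 (pCore 2 G) := Solvable.Cores.isPGroup_pCore 2
  -- no member lies in the core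
  have hker : ∀ d ∈ D, π d ≠ 1 := by
    intro d hd e
    have hdK : d ∈ pCore 2 G := (QuotientGroup.eq_one_iff d).1 e
    have htop : pCore 2 G = ⊤ := by
      rw [eq_top_iff, ← hD.generates, Subgroup.closure_le]
      intro y hy
      obtain ⟨g, rfl⟩ := hcl.2.2 d hd y hy
      exact Subgroup.Normal.conj_mem inferInstance d hdK g
    have h1 := eq_one_of_odd_of_mem h2 (htop ▸ Subgroup.mem_top (x₁ * x₂)) hodd₁
    exact hne₁ (by rw [mul_eq_one_iff_eq_inv, inv_eq hD hx₂] at h1; exact h1)
  have hsq : ∀ d ∈ D, π d * π d = 1 := fun d hd => by rw [← map_mul, sq_one hD hd, map_one]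
  have horder : ∀ d ∈ D, orderOf (π d) = 2 := fun d hd =>
    Involution.Dihedral.orderOf_eq_two (hsq d hd) (hker d hd)
  -- members with commuting images are joined
  have hjoin : ∀ p ∈ D, ∀ q ∈ D, Commute (π p) (π q) →
      Relation.ReflTransGen (CommAdj D) p q := by
    intro p hp q hq hc
    by_cases hpq : p = q
    · rw [hpq]
    by_cases hc' : Commute p q
    · exact .single ⟨hp, hq, hpq, hc'⟩
    by_cases ho : OddAdj D p q
    · exfalso
      have hs : π ((p * q) * (p * q)) = 1 := by
        rw [map_mul, map_mul, hc.symm.mul_mul_mul_comm, hsq p hp, hsq q hq, one_mul]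
      have h1 := eq_one_of_odd_of_mem h2 ((QuotientGroup.eq_one_iff _).1 hs)
        (by rw [← pow_two]; exact Odd.of_dvd_nat ho.2.2.2 (orderOf_pow_dvd 2))
      have h3 : orderOf (p * q) = 1 := Nat.eq_one_of_dvd_coprimes
        (Nat.coprime_two_right.2 ho.2.2.2) dvd_rfl (orderOf_dvd_of_pow_eq_one (by rw [pow_two, h1]))
      rw [orderOf_eq_one_iff, mul_eq_one_iff_eq_inv, inv_eq hD hq] at h3
      exact hpq h3
    obtain ⟨htp, htq⟩ := tri_bracket hD hp hq ho hc'
    have h1 : CommAdj D p (p * q * p * q) := ⟨hp, htp.right, htp.ne hD, htp.comm⟩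
    have h3 : CommAdj D (p * q * p * q) q := ⟨htp.right, hq, (htq.ne hD).symm, htq.comm.symm⟩
    exact (Relation.ReflTransGen.single h1).tail h3
  have hlift : ∀ x y, Relation.ReflTransGen (CommAdj (π '' D)) x y → ∀ p ∈ D, ∀ q ∈ D, π p = x →
      π q = y → Relation.ReflTransGen (CommAdj D) p q := by
    intro x y hxy
    induction hxy with
    | refl => exact fun p hp q hq e1 e2 => hjoin p hp q hq (by rw [e1, e2])
    | @tail y z _ hyz ih =>
      intro p hp q hq e1 e2
      obtain ⟨⟨r, hr, hry⟩, -, -, hc⟩ := hyz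
      exact (ih p hp r hr e1 hry).trans (hjoin r hr q hq (hry ▸ e2 ▸ hc))
  set R := Relation.ReflTransGen (CommAdj (π '' D)) with hR
  have hroot : IsRootInvolutionSet (π '' D) :=
    { orderOf_eq := by rintro _ ⟨d, hd, rfl⟩; exact horder d hd
      generates := by
        rw [← MonoidHom.map_closure, hD.generates, ← MonoidHom.range_eq_map,
          MonoidHom.range_eq_top.2 (QuotientGroup.mk'_surjective _)]
      conj_mem := by
        rintro _ ⟨d, hd, rfl⟩ g
        obtain ⟨g, rfl⟩ := QuotientGroup.mk'_surjective (pCore 2 G) g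
        exact ⟨g * d * g⁻¹, hD.conj_mem d hd g, by rw [map_mul, map_mul, map_inv]⟩
      pair := by
        rintro _ ⟨p, hp, rfl⟩ _ ⟨q, hq, rfl⟩
        rcases hD.pair p hp q hq with h | h | ⟨h, h'⟩
        · exact Or.inl (by rw [← map_mul, h, map_mul])
        · exact Or.inr (Or.inl (h.of_dvd_nat (by rw [← map_mul]; exact orderOf_map_dvd π (p * q))))
        · have hdvd : orderOf (π p * π q) ∣ 2 ^ 2 := by
            rw [← map_mul]; exact (orderOf_map_dvd π (p * q)).trans (dvd_of_eq h)
          obtain ⟨i, hi, hi'⟩ := (Nat.dvd_prime_pow Nat.prime_two).1 hdvd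
          rcases (show i ≤ 1 ∨ i = 2 by omega) with hi1 | rfl
          · refine Or.inl ?_
            have hs : (π p * π q) ^ 2 = 1 := orderOf_dvd_iff_pow_eq_one.1
              (hi' ▸ (Nat.pow_dvd_pow 2 hi1 : 2 ^ i ∣ 2 ^ 1))
            calc π p * π q = π p * π q * ((π p * π q) ^ 2)⁻¹ := by rw [hs, inv_one, mul_one]
              _ = (π q)⁻¹ * (π p)⁻¹ := by group
              _ = π q * π p := by
                  rw [inv_eq_of_mul_eq_one_right (hsq p hp), inv_eq_of_mul_eq_one_right (hsq q hq)]
          · exact Or.inr (Or.inr ⟨hi', ⟨_, h', by rw [map_pow, map_mul]⟩⟩) }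
  have hno : ¬ OddAdj D a b := fun h => by
    have h' := h.2.2.2
    rw [h4] at h'
    exact (by decide : ¬ Odd 4) h'
  have hnc : ¬ Commute a b := fun h => by
    have h2 : (a * b) ^ 2 = 1 := by
      rw [h.mul_pow, pow_two, pow_two, sq_one hD ha, sq_one hD hb, one_mul]
    have := Nat.le_of_dvd (by norm_num) (orderOf_dvd_of_pow_eq_one h2)
    omega
  obtain ⟨hta, htb⟩ := tri_bracket hD ha hb hno hnc
  have hadj : ∀ {p q : G}, Tri D p q → CommAdj (π '' D) (π p) (π q) := fun {p q} ht =>
    ⟨⟨p, ht.left, rfl⟩, ⟨q, ht.right, rfl⟩, fun e => hker _ ht.mem (by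
      rw [map_mul, e, hsq q ht.right]), ht.comm.map π⟩
  have hset : Setup (π '' D) R :=
    { root := hroot
      tri := ⟨π a, π (a * b * a * b), ⟨⟨a, ha, rfl⟩, ⟨_, hta.right, rfl⟩, hta.comm.map π,
        ⟨_, hta.mem, map_mul π _ _⟩⟩⟩
      refl := fun _ => .refl
      symm := fun h => by
        induction h with
        | refl => rfl
        | tail _ h2 ih => exact ih.head ⟨h2.2.1, h2.1, h2.2.2.1.symm, h2.2.2.2.symm⟩
      trans := fun h1 h2 => h1.trans h2
      conj := fun g h => by
        induction h with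
        | refl => rfl
        | tail _ h2 ih => exact ih.tail ⟨hroot.conj_mem _ h2.1 g, hroot.conj_mem _ h2.2.1 g,
            fun e => h2.2.2.1 (mul_left_cancel (mul_right_cancel e)),
            (Commute.conj (show Commute _ _ from h2.2.2.2) g).eq⟩
      of_commute := fun {p q} hp hq hc => by
        by_cases hpq : p = q
        · rw [hpq]
        · exact .single ⟨hp, hq, hpq, hc⟩
      two := by
        by_contra hall
        push Not at hall
        exact hcon fun p hp q hq => hlift _ _ (hall _ ⟨p, hp, rfl⟩ _ ⟨q, hq, rfl⟩) p hp q hq rfl rfl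
      o2 := CfsgLib.Components.SFT.pCore_quotient_eq_bot 2 G }
  have hab : R (π a) (π b) :=
    (Relation.ReflTransGen.single (hadj hta)).trans (hset.symm (.single (hadj htb)))
  have hc := hmain _ _ _ hset (π a) ⟨a, ha, rfl⟩ (π b) ⟨b, hb, rfl⟩ hab
  exact hker _ hta.right (by
    rw [map_mul, map_mul, map_mul, hc.eq, mul_assoc (π b), hsq a ha, mul_one, hsq b hb])

end CfsgLib.LocalEven.RootReduction
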