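import Cfsg.Agent.Lib.LocalEven.RootReduction.Structure
import Cfsg.Agent.Lib.Perm.RootInvolutionQuotient

/-!
# The disconnected case, as a single proposition
-/

set_option autoImplicit false

namespace CfsgLib.LocalEven.RootReduction

universe u

/-- Theorem T gives the disconnected case of a set of root involutions. -/
theorem disconnectedStructure_of_step (hstep : CfsgLib.LocalEven.TIEndgame.TIStep.{u}) :
    CfsgLib.Perm.RootInvolution.DisconnectedStructure.{u} :=
  fun _ _ _ _ hD hDD => structure_of_disconnected hstep hD hDD

end CfsgLib.LocalEven.RootReduction
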