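import Cfsg.Agent.Lib.LocalEven.RootReduction.ExoticSylow

/-!
# No exotic configuration

If some involution fixes two classes, some such involution centralises two distinct commuting
members. Otherwise the members commuting with a member central in a Sylow subgroup would form at
most two commuting sets, either exchanged by a bad involution, against transfer, or normalised by
one, against the absence of elements of order four centralising two commuting members.
-/

set_option autoImplicit false
set_option linter.style.haveILetI false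

namespace CfsgLib.LocalEven.RootReduction

open Cfsg CfsgLib.Perm.RootInvolution

variable {G : Type*} [Group G] [Finite G] {D : Set G} {R : G → G → Prop}

namespace Setup

/-- There is no exotic configuration with a bad involution. -/
theorem false_of_exotic (h : Setup D R) (hx : Exotic D R) {u₀ : G} (hu₀ : Bad D R u₀) : False := by
  classical
  haveI := Fact.mk Nat.prime_two
  haveI := Fintype.ofFinite G
  -- a member central in a Sylow subgroup
  obtain ⟨P⟩ : Nonempty (Sylow 2 G) := inferInstance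
  obtain ⟨z, hz, hP⟩ : ∃ z ∈ D, ∀ g ∈ (P : Subgroup G), Commute g z := by
    letI : MulAction (P : Subgroup G) D :=
      { smul := fun g d => ⟨(g : G) * d * (g : G)⁻¹, h.root.conj_mem d d.2 g⟩
        one_smul := fun d => Subtype.ext (by
          show ((1 : (P : Subgroup G)) : G) * (d : G) * ((1 : (P : Subgroup G)) : G)⁻¹ = d
          simp)
        mul_smul := fun g g' d => Subtype.ext (by
          show ((g * g' : (P : Subgroup G)) : G) * (d : G) * ((g * g' : (P : Subgroup G)) : G)⁻¹ =
            (g : G) * ((g' : G) * (d : G) * (g' : G)⁻¹) * (g : G)⁻¹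
          simp [mul_assoc]) }
    obtain ⟨⟨z, hz⟩, hfix⟩ := P.isPGroup'.nonempty_fixed_point_of_prime_not_dvd_card D
      (fun e => Nat.not_even_iff_odd.2 h.odd_card (even_iff_two_dvd.2 e))
    exact ⟨z, hz, fun g hg => mul_inv_eq_iff_eq_mul.1 (congrArg Subtype.val (hfix ⟨g, hg⟩))⟩
  -- a bad involution in it
  obtain ⟨u, hu, huP⟩ : ∃ u, Bad D R u ∧ u ∈ (P : Subgroup G) := by
    obtain ⟨-, -, a, ha, -, -, -, hfa, -⟩ := id hu₀
    obtain ⟨f, hf, -, hcf⟩ := h.exists_centred hu₀.1 ha hfa
    obtain ⟨g, hg⟩ := h.exists_conj hf hz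
    have hb := h.bad_conj hu₀ g
    have h2 : IsPGroup 2 (Subgroup.zpowers (g * u₀ * g⁻¹)) := by
      refine IsPGroup.of_card (n := 1) ?_
      rw [Nat.card_zpowers, pow_one]
      exact orderOf_eq_prime (by rw [pow_two]; exact hb.1) hb.2.1
    obtain ⟨k, -, hkX⟩ := exists_conj_into P
      (C := Subgroup.centralizer ({z} : Set G))
      (fun y hy => Subgroup.mem_centralizer_singleton_iff.2 (hP y hy).eq) h2
      (Subgroup.zpowers_le.2 (Subgroup.mem_centralizer_singleton_iff.2 (hg ▸ hcf.conj g).eq))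
    exact ⟨_, h.bad_conj hb k, hkX _ (Subgroup.mem_zpowers _)⟩
  have hzz := sq_one h.root hz
  -- two neighbours commute or have product of order four with square `z`
  have hsq : ∀ q q', Nbr D z q → Nbr D z q' → ¬ Commute q q' → q * q' * q * q' = z := by
    intro q q' hq hq' hc
    have ho : ¬ OddAdj D q q' := fun e => h.not_commute_oddAdj hz e hq.comm.symm hq'.comm.symm
    obtain ⟨htq, htq'⟩ := tri_bracket h.root hq.mem hq'.mem ho hc
    by_contra hne
    have hcz : Commute (q * q' * q * q') z :=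
      ((hq.comm.mul_left hq'.comm).mul_left hq.comm).mul_left hq'.comm
    have h4 : IsPGroup 2 (Subgroup.zpowers (q * q')) := fun y => ⟨2, Subtype.ext (by
      obtain ⟨i, hi⟩ := y.2
      have hxx : (q * q') ^ (4 : ℕ) = 1 := by
        rw [show (4 : ℕ) = 2 * 2 from rfl, pow_mul, pow_two (q * q'), ← mul_assoc, pow_two]
        exact sq_one h.root htq.right
      simp only [Subgroup.coe_pow, ← hi, Subgroup.coe_one]
      rw [← zpow_natCast, ← zpow_mul, mul_comm, zpow_mul, zpow_natCast]
      norm_num [hxx])⟩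
    have h1 := h.sq_eq_one hz hx P hP hu huP ⟨htq.right, hcz, hne⟩ h4 (hq.comm.mul_left hq'.comm)
      (htq.comm.mul_left htq'.comm)
    rw [← mul_assoc] at h1
    exact ne_one h.root htq.right h1
  have hone : ∀ q q' w, Nbr D z q → Nbr D z q' → Nbr D z w → ¬ Commute q q' →
      (Commute w q ↔ ¬ Commute w q') := by
    intro q q' w hq hq' hw hc
    have hfour := hsq q q' hq hq' hc
    have key : ¬ Commute w (q * q') := fun e => by
      have h4 : IsPGroup 2 (Subgroup.zpowers (q * q')) := fun y => ⟨2, Subtype.ext (by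
        obtain ⟨i, hi⟩ := y.2
        have hxx : (q * q') ^ (4 : ℕ) = 1 := by
          rw [show (4 : ℕ) = 2 * 2 from rfl, pow_mul, pow_two (q * q'), ← mul_assoc, hfour,
            pow_two, hzz]
        simp only [Subgroup.coe_pow, ← hi, Subgroup.coe_one]
        rw [← zpow_natCast, ← zpow_mul, mul_comm, zpow_mul, zpow_natCast]
        norm_num [hxx])⟩
      have h1 := h.sq_eq_one hz hx P hP hu huP hw h4 (hq.comm.mul_left hq'.comm) e.symm
      rw [← mul_assoc, hfour] at h1
      exact ne_one h.root hz h1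
    refine ⟨fun h1 h2 => key (h1.mul_right h2), fun h2 => by_contra fun h1 => key ?_⟩
    -- `w` moves both to their translates
    have htr : ∀ p, Nbr D z p → ¬ Commute w p → w * p * w⁻¹ = p * z := fun p hp hwp => by
      have e := hsq p w hp hw fun e' => hwp e'.symm
      rw [inv_eq h.root hw.mem]
      calc w * p * w = p * (p * w * p * w) := by
            simp only [mul_assoc, cancel h.root hp.mem]
        _ = p * z := by rw [e]
    refine mul_inv_eq_iff_eq_mul.1 ?_
    calc w * (q * q') * w⁻¹ = w * q * w⁻¹ * (w * q' * w⁻¹) := by group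
      _ = q * q' := by
          rw [htr q hq h1, htr q' hq' h2, mul_assoc q z, ← mul_assoc z q', hq'.comm.symm.eq,
            mul_assoc q' z z, hzz, mul_one]
  have htrans : ∀ q w r, Nbr D z q → Nbr D z w → Nbr D z r → Commute q w → Commute w r →
      Commute q r := fun q w r hq hw hr h1 h2 => by_contra fun hn =>
    (hone q r w hq hr hw hn).1 h1.symm h2
  -- a bad involution of `P` which keeps a set keeps only one pair in it
  have hkeep : ∀ v, Bad D R v → v ∈ (P : Subgroup G) → ∀ q, Nbr D z q →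
      Commute (v * q * v⁻¹) q → v * q * v⁻¹ = q * z ∧
        ∀ w, Nbr D z w → Commute w q → w = q ∨ w = q * z := by
    intro v hv hvP q hq hc
    have hvz := hP v hvP
    have key : ∀ p, Nbr D z p → Commute (v * p * v⁻¹) p → v * p * v⁻¹ = p * z := by
      intro p hp hpc
      have hvi : v⁻¹ = v := inv_eq_of_mul_eq_one_left hv.1
      have hne : v * p * v⁻¹ ≠ p := fun e =>
        hp.ne (hx v hv p hp.mem z hz (mul_inv_eq_iff_eq_mul.1 e) hvz hp.comm)
      have hm := h.mul_mem_of_commute hp.mem (h.nbr_conj hz hp hvz).mem hpc.symm hne.symm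
      have hvm : Commute v (p * (v * p * v⁻¹)) := mul_inv_eq_iff_eq_mul.1 (by
        calc v * (p * (v * p * v⁻¹)) * v⁻¹ = v * p * v⁻¹ * (v * v * p * (v * v)⁻¹) := by group
          _ = p * (v * p * v⁻¹) := by rw [hv.1, inv_one, one_mul, mul_one, hpc.eq])
      have he := hx v hv _ hm z hz hvm hvz
        (hp.comm.mul_left (h.nbr_conj hz hp hvz).comm)
      calc v * p * v⁻¹ = p * (p * (v * p * v⁻¹)) := (cancel h.root hp.mem _).symm
        _ = p * z := by rw [he]
    refine ⟨key q hq hc, fun w hw hwq => by_contra fun hn => ?_⟩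
    push Not at hn
    have h1 : Commute (v * w * v⁻¹) q := by
      have h2 := hwq.conj v
      rw [key q hq hc] at h2
      have h3 := h2.mul_right (h.nbr_conj hz hw hvz).comm
      rwa [mul_assoc q z z, hzz, mul_one] at h3
    have h2 := key w hw (htrans _ q w (h.nbr_conj hz hw hvz) hq hw h1 hwq.symm)
    have hvqw : Commute v (q * w) := mul_inv_eq_iff_eq_mul.1 (by
      rw [show v * (q * w) * v⁻¹ = v * q * v⁻¹ * (v * w * v⁻¹) by group, key q hq hc, h2,
        mul_assoc q z, ← mul_assoc z w, hw.comm.symm.eq, mul_assoc w z z, hzz, mul_one])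
    have he := hx v hv _ (h.mul_mem_of_commute hq.mem hw.mem hwq.symm (Ne.symm hn.1)) z hz hvqw hvz
      (hq.comm.mul_left hw.comm)
    exact hn.2 (by rw [← he, cancel h.root hq.mem])
  obtain ⟨y, hy⟩ := h.exists_tri hz
  have hq₀ : Nbr D z y := ⟨hy.right, hy.comm.symm, (hy.ne h.root).symm⟩
  by_cases hswap : ∃ v q, Bad D R v ∧ v ∈ (P : Subgroup G) ∧ Nbr D z q ∧
      ¬ Commute (v * q * v⁻¹) q
  · obtain ⟨v, q, hv, hvP, hq, hvq⟩ := hswap
    have hN : ∀ {g : G}, g ∈ (P : Subgroup G) → Nbr D z (g * q * g⁻¹) := fun hg =>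
      h.nbr_conj hz hq (hP _ hg)
    let Q : Subgroup G :=
      { carrier := {g | g ∈ (P : Subgroup G) ∧ Commute (g * q * g⁻¹) q}
        one_mem' := ⟨one_mem _, by simp⟩
        mul_mem' := fun {g g'} hg hg' => ⟨mul_mem hg.1 hg'.1, by
          refine htrans _ _ _ (hN (mul_mem hg.1 hg'.1)) (hN hg.1) hq ?_ hg.2
          have h1 := hg'.2.conj g
          rwa [show g * (g' * q * g'⁻¹) * g⁻¹ = g * g' * q * (g * g')⁻¹ by group] at h1⟩
        inv_mem' := fun {g} hg => ⟨inv_mem hg.1, by
          have h1 := hg.2.conj g⁻¹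
          rw [show g⁻¹ * (g * q * g⁻¹) * g⁻¹⁻¹ = q by group] at h1
          exact h1.symm⟩ }
    have hmemQ : ∀ {g : G}, g ∈ Q ↔ g ∈ (P : Subgroup G) ∧ Commute (g * q * g⁻¹) q := Iff.rfl
    have hidx : Q.relIndex (P : Subgroup G) = 2 := by
      rw [Subgroup.relIndex, Subgroup.index_eq_two_iff]
      refine ⟨⟨v, hvP⟩, fun b => ?_⟩
      rw [xor_iff_iff_not, Subgroup.mem_subgroupOf, Subgroup.mem_subgroupOf, Subgroup.coe_mul,
        hmemQ, hmemQ, and_iff_right (mul_mem b.2 hvP), and_iff_right b.2]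
      have hnc : ¬ Commute ((b : G) * v * q * ((b : G) * v)⁻¹) ((b : G) * q * (b : G)⁻¹) := fun e =>
        hvq (by
          have h1 := e.conj (b : G)⁻¹
          rwa [show (b : G)⁻¹ * ((b : G) * v * q * ((b : G) * v)⁻¹) * (b : G)⁻¹⁻¹ = v * q * v⁻¹
            by group, show (b : G)⁻¹ * ((b : G) * q * (b : G)⁻¹) * (b : G)⁻¹⁻¹ = q by group] at h1)
      have h1 := hone _ _ q (hN (mul_mem b.2 hvP)) (hN b.2) hq hnc
      exact ⟨fun e e' => h1.1 e.symm e'.symm, fun e => (h1.2 fun e' => e e'.symm).symm⟩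
    obtain ⟨g, hgQ⟩ := h.exists_conj_mem P (fun x hxQ => (hmemQ.1 hxQ).1) hidx hv.1 hvP fun e => hvq e.2
    set w := g * v * g⁻¹ with hw
    obtain ⟨hwP, hwq⟩ := hmemQ.1 hgQ
    obtain ⟨k, hkz, hkv⟩ := h.exists_conj_fixing_member hv hz (hP v hvP) (hP w hwP) hw.symm
    set r := k * q * k⁻¹ with hr
    have hrN : Nbr D z r := h.nbr_conj hz hq hkz
    have hwr : ¬ Commute (w * r * w⁻¹) r := fun e => hvq (by
      have h1 := e.conj k⁻¹
      rwa [← hkv, hr, show k⁻¹ * (k * v * k⁻¹ * (k * q * k⁻¹) * (k * v * k⁻¹)⁻¹) * k⁻¹⁻¹ =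
        v * q * v⁻¹ by group, show k⁻¹ * (k * q * k⁻¹) * k⁻¹⁻¹ = q by group] at h1)
    have hwrN := h.nbr_conj hz hrN (hP w hwP)
    by_cases hrq : Commute r q
    · refine hwr (htrans _ _ _ hwrN (hN hwP) hrN (hrq.conj w) ?_)
      exact htrans _ _ _ (hN hwP) hq hrN hwq hrq.symm
    · have h1 : ¬ Commute q (w * r * w⁻¹) := fun e =>
        (hone _ _ q hwrN (hN hwP) hq fun e' => hrq (by
          have h2 := e'.conj w⁻¹
          rwa [show w⁻¹ * (w * r * w⁻¹) * w⁻¹⁻¹ = r by group,
            show w⁻¹ * (w * q * w⁻¹) * w⁻¹⁻¹ = q by group] at h2)).1 e hwq.symm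
      exact hwr ((hone r q (w * r * w⁻¹) hrN hq hwrN hrq).2 fun e => h1 e.symm)
  · push Not at hswap
    have hpair : ∀ q, Nbr D z q → u * q * u⁻¹ = q * z ∧
        ∀ w, Nbr D z w → Commute w q → w = q ∨ w = q * z := fun q hq =>
      hkeep u hu huP q hq (hswap u q hu huP hq)
    by_cases hall : ∀ w, Nbr D z w → Commute w y
    · refine h.no_fixed_pair hz hx P hP hu huP hq₀ fun g hg => ?_
      exact (hpair y hq₀).2 _ (h.nbr_conj hz hq₀ (hP g hg)) (hall _ (h.nbr_conj hz hq₀ (hP g hg)))
    push Not at hall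
    obtain ⟨w, hw, hwy⟩ := hall
    -- `u y w` has order four and centralises `z` and `y`
    set g := u * (y * w) with hg
    have huyw : Commute u (y * w) := mul_inv_eq_iff_eq_mul.1 (by
      rw [show u * (y * w) * u⁻¹ = u * y * u⁻¹ * (u * w * u⁻¹) by group, (hpair y hq₀).1,
        (hpair w hw).1, mul_assoc y z, ← mul_assoc z w, hw.comm.symm.eq, mul_assoc w z z, hzz,
        mul_one])
    have hyw : y * w * y * w = z := hsq y w hq₀ hw fun e => hwy e.symm
    have hgg : g * g = z := by
      rw [hg, huyw.symm.mul_mul_mul_comm, hu.1, one_mul, ← mul_assoc, hyw]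
    have hgz : Commute g z := (hP u huP).mul_left (hq₀.comm.mul_left hw.comm)
    have hgy : Commute g y := by
      refine mul_inv_eq_iff_eq_mul.1 ?_
      have h1 : w * y * w⁻¹ = y * z := by
        rw [inv_eq h.root hw.mem]
        calc w * y * w = y * (y * w * y * w) := by simp only [mul_assoc, cancel h.root hq₀.mem]
          _ = y * z := by rw [hyw]
      calc g * y * g⁻¹ = u * (y * (w * y * w⁻¹) * y⁻¹) * u⁻¹ := by rw [hg]; group
        _ = u * (y * z) * u⁻¹ := by
            rw [h1, inv_eq h.root hq₀.mem, mul_assoc y (y * z), mul_assoc y z y,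
              hq₀.comm.symm.eq, cancel h.root hq₀.mem]
        _ = y := by
            rw [h.conj_mul_right hz (hP u huP), (hpair y hq₀).1, mul_assoc, hzz, mul_one]
    have hg4 : IsPGroup 2 (Subgroup.zpowers g) := fun t => ⟨2, Subtype.ext (by
      obtain ⟨i, hi⟩ := t.2
      have hxx : g ^ (4 : ℕ) = 1 := by
        rw [show (4 : ℕ) = 2 * 2 from rfl, pow_mul, pow_two g, hgg, pow_two, hzz]
      simp only [Subgroup.coe_pow, ← hi, Subgroup.coe_one]
      rw [← zpow_natCast, ← zpow_mul, mul_comm, zpow_mul, zpow_natCast]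
      norm_num [hxx])⟩
    exact ne_one h.root hz (hgg.symm.trans (h.sq_eq_one hz hx P hP hu huP hq₀ hg4 hgz hgy))

end Setup

end CfsgLib.LocalEven.RootReduction
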