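import Cfsg.Agent.Lib.LocalEven.RootReduction.ExoticTools
import Cfsg.Agent.Lib.LocalEven.SwapInjective.Main

/-!
# The exotic configuration: `2`-elements centralising two commuting members

For a member `z` central in a Sylow `2`-subgroup normalised pairs `{q, qz}` do not exist, so their
number is even; hence `2`-elements centralising `z` and another member commuting with it are
involutions.
-/

set_option autoImplicit false
set_option linter.style.haveILetI false

namespace CfsgLib.LocalEven.RootReduction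

open Cfsg CfsgLib.Perm.RootInvolution CfsgLib.Involution

variable {G : Type*} [Group G] {D : Set G} {R : G → G → Prop}

/-- A member commuting with `z` and different from it. -/
structure Nbr (D : Set G) (z q : G) : Prop where
  mem : q ∈ D
  comm : Commute q z
  ne : q ≠ z

/-- `g` fixes the pair of `q`. -/
def FixPair (z g q : G) : Prop := g * q * g⁻¹ = q ∨ g * q * g⁻¹ = q * z

/-- A `2`-subgroup of a subgroup containing a Sylow subgroup is conjugate into it inside. -/
theorem exists_conj_into [Finite G] (P : Sylow 2 G) {C X : Subgroup G} (hPC : (P : Subgroup G) ≤ C)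
    (hX : IsPGroup 2 X) (hXC : X ≤ C) : ∃ g ∈ C, ∀ x ∈ X, g * x * g⁻¹ ∈ (P : Subgroup G) := by
  haveI := Fact.mk Nat.prime_two
  obtain ⟨S, hS⟩ := (hX.of_equiv (Subgroup.subgroupOfEquivOfLe hXC).symm).exists_le_sylow
  obtain ⟨g, hg⟩ := MulAction.exists_smul_eq C S (P.subtype hPC)
  refine ⟨g, g.2, fun x hx => ?_⟩
  have h2 : g * ⟨x, hXC hx⟩ * g⁻¹ ∈ ((g • S : Sylow 2 C) : Subgroup C) :=
    ⟨⟨x, hXC hx⟩, hS (Subgroup.mem_subgroupOf.2 hx), rfl⟩
  rw [hg, Sylow.coe_subtype, Subgroup.mem_subgroupOf] at h2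
  exact h2

namespace Setup

variable (h : Setup D R) {z : G} (hz : z ∈ D)
include h hz

theorem nbr_tri {q : G} (hq : Nbr D z q) : Tri D z q :=
  h.tri_of_commute hz hq.mem hq.comm.symm hq.ne.symm

theorem nbr_mul {q : G} (hq : Nbr D z q) : Nbr D z (q * z) :=
  ⟨h.mul_mem_of_commute hq.mem hz hq.comm hq.ne, hq.comm.mul_left (Commute.refl z),
    fun e => ne_one h.root hq.mem (mul_eq_right.1 e)⟩

theorem nbr_conj {q g : G} (hq : Nbr D z q) (hg : Commute g z) : Nbr D z (g * q * g⁻¹) := by
  have hgz : g * z * g⁻¹ = z := mul_inv_eq_iff_eq_mul.2 hg.eq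
  exact ⟨h.root.conj_mem q hq.mem g, hgz ▸ hq.comm.conj g,
    fun e => hq.ne (mul_left_cancel (mul_right_cancel (e.trans hgz.symm)))⟩

theorem conj_mul_right {q g : G} (hg : Commute g z) :
    g * (q * z) * g⁻¹ = g * q * g⁻¹ * z := by
  calc g * (q * z) * g⁻¹ = g * q * g⁻¹ * (g * z * g⁻¹) := by group
    _ = g * q * g⁻¹ * z := by rw [hg.eq, mul_inv_cancel_right]

variable [Finite G]

/-- No pair is normalised by a Sylow subgroup centralising `z` and containing a bad involution. -/
theorem no_fixed_pair (hx : Exotic D R) (P : Sylow 2 G) (hP : ∀ g ∈ (P : Subgroup G), Commute g z)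
    {u : G} (hu : Bad D R u) (huP : u ∈ (P : Subgroup G)) {q : G} (hq : Nbr D z q)
    (hfix : ∀ g ∈ (P : Subgroup G), FixPair z g q) : False := by
  set Q : Subgroup G := (P : Subgroup G) ⊓ Subgroup.centralizer ({q} : Set G) with hQ
  have hmem : ∀ {g : G}, g ∈ (P : Subgroup G) → (g ∈ Q ↔ g * q * g⁻¹ = q) := fun {g} hg => by
    rw [hQ, Subgroup.mem_inf, Subgroup.mem_centralizer_singleton_iff, mul_inv_eq_iff_eq_mul]
    exact ⟨fun e => e.2, fun e => ⟨hg, e⟩⟩
  have huq : u * q * u⁻¹ = q * z := (hfix u huP).resolve_left fun e =>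
    hq.ne (hx u hu q hq.mem z hz (mul_inv_eq_iff_eq_mul.1 e) (hP u huP) hq.comm)
  have huQ : u ∉ Q := fun e => ne_one h.root hz (mul_eq_left.1 (huq.symm.trans ((hmem huP).1 e)))
  have hidx : Q.relIndex (P : Subgroup G) = 2 := by
    rw [Subgroup.relIndex, Subgroup.index_eq_two_iff]
    refine ⟨⟨u, huP⟩, fun b => ?_⟩
    rw [xor_iff_iff_not]
    rw [Subgroup.mem_subgroupOf, Subgroup.mem_subgroupOf, Subgroup.coe_mul,
      hmem (mul_mem b.2 huP), hmem b.2]
    have hbu : (b : G) * u * q * ((b : G) * u)⁻¹ = (b : G) * q * (b : G)⁻¹ * z := by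
      rw [← h.conj_mul_right hz (hP b b.2), ← huq]; group
    rw [hbu]
    rcases hfix b b.2 with e | e <;> rw [e]
    · simp [ne_one h.root hz]
    · rw [mul_assoc, sq_one h.root hz, mul_one]
      exact iff_of_true rfl fun e' => ne_one h.root hz (mul_eq_left.1 e')
  obtain ⟨g, hg⟩ := h.exists_conj_mem P inf_le_left hidx hu.1 huP huQ
  have hb := h.bad_conj hu g
  exact h.not_mem_of_bad hb (h.mem_of_commute_tri hx hb.1 hb.2.1 (h.nbr_tri hz hq)
    (hP _ hg.1) (Subgroup.mem_centralizer_singleton_iff.1 hg.2))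

/-- A `2`-subgroup fixing the pair of `v` fixes the pair of a member not commuting with `v`. -/
theorem exists_other_pair (hx : Exotic D R) (P : Sylow 2 G)
    (hP : ∀ g ∈ (P : Subgroup G), Commute g z)
    {u : G} (hu : Bad D R u) (huP : u ∈ (P : Subgroup G)) {X : Subgroup G} (hX : IsPGroup 2 X)
    (hXz : ∀ g ∈ X, Commute g z) {v : G} (hv : Nbr D z v) (hXv : ∀ g ∈ X, FixPair z g v) :
    ∃ w, Nbr D z w ∧ ¬ Commute w v ∧ ∀ g ∈ X, FixPair z g w := by
  classical
  haveI := Fintype.ofFinite G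
  by_contra hcon
  push Not at hcon
  let Pr := {s : Finset G // ∃ q, Nbr D z q ∧ s = {q, q * z}}
  have himg : ∀ (g q : G), Commute g z →
      ({q, q * z} : Finset G).image (fun t => g * t * g⁻¹) =
        {g * q * g⁻¹, g * q * g⁻¹ * z} := fun g q hg => by
    rw [Finset.image_insert, Finset.image_singleton, h.conj_mul_right hz hg]
  have hiff : ∀ (g q : G), Commute g z →
      (({q, q * z} : Finset G).image (fun t => g * t * g⁻¹) = {q, q * z} ↔ FixPair z g q) := by
    intro g q hg
    rw [himg g q hg]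
    constructor
    · intro e
      have : g * q * g⁻¹ ∈ ({q, q * z} : Finset G) := e ▸ Finset.mem_insert_self _ _
      simpa [FixPair] using this
    · rintro (e | e) <;> rw [e]
      rw [mul_assoc, sq_one h.root hz, mul_one, Finset.pair_comm]
  let act : ∀ (Y : Subgroup G), (∀ g ∈ Y, Commute g z) → MulAction Y Pr := fun Y hY =>
    { smul := fun g s => ⟨s.1.image fun t => (g : G) * t * (g : G)⁻¹, by
        obtain ⟨q, hq, e⟩ := s.2
        exact ⟨_, h.nbr_conj hz hq (hY g g.2), by rw [e, himg _ _ (hY g g.2)]⟩⟩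
      one_smul := fun s => Subtype.ext (by
        show s.1.image (fun t => ((1 : Y) : G) * t * ((1 : Y) : G)⁻¹) = s.1
        simp)
      mul_smul := fun g g' s => Subtype.ext (by
        show s.1.image (fun t => ((g * g' : Y) : G) * t * ((g * g' : Y) : G)⁻¹) =
          (s.1.image fun t => (g' : G) * t * (g' : G)⁻¹).image
            fun t => (g : G) * t * (g : G)⁻¹
        rw [Finset.image_image]
        exact Finset.image_congr fun t _ => by simp [mul_assoc]) }
  haveI := Fact.mk Nat.prime_two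
  have h0 : Nat.card Pr % 2 = 0 := by
    letI := act (P : Subgroup G) hP
    have h1 := P.isPGroup'.card_modEq_card_fixedPoints Pr
    haveI : IsEmpty (MulAction.fixedPoints (P : Subgroup G) Pr) := ⟨fun ⟨⟨s, q, hq, e⟩, hs⟩ =>
      h.no_fixed_pair hz hx P hP hu huP hq fun g hg => (hiff g q (hP g hg)).1 (by
        rw [← e]; exact congrArg Subtype.val (hs ⟨g, hg⟩))⟩
    have h2 : Nat.card (MulAction.fixedPoints (P : Subgroup G) Pr) = 0 := Nat.card_of_isEmpty
    rw [h2] at h1
    exact h1
  letI := act X hXz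
  have h1 := hX.card_modEq_card_fixedPoints Pr
  set F := Finset.univ.filter fun s : Pr => s ∈ MulAction.fixedPoints X Pr with hF
  have hFcard : F.card % 2 = 0 := by
    rw [Nat.ModEq, h0] at h1
    rw [hF, ← Fintype.card_subtype, ← Nat.card_eq_fintype_card]
    exact h1.symm
  have hfixed : ∀ {q : G} (hq : Nbr D z q),
      (⟨{q, q * z}, q, hq, rfl⟩ : Pr) ∈ F ↔ ∀ g ∈ X, FixPair z g q := by
    intro q hq
    rw [hF, Finset.mem_filter, MulAction.mem_fixedPoints]
    refine ⟨fun hs g hg => (hiff g q (hXz g hg)).1 (congrArg Subtype.val (hs.2 ⟨g, hg⟩)),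
      fun hs => ⟨Finset.mem_univ _, fun g => Subtype.ext ((hiff g q (hXz g g.2)).2 (hs g g.2))⟩⟩
  let sv : Pr := ⟨{v, v * z}, v, hv, rfl⟩
  have hsv : sv ∈ F := (hfixed hv).2 hXv
  -- translation by `v` is an involution on the other fixed pairs
  have hpair : ∀ (s : Pr), s ∈ F.erase sv → ∃ q, ∃ hq : Nbr D z q, s = ⟨{q, q * z}, q, hq, rfl⟩ ∧
      Commute q v ∧ (∀ g ∈ X, FixPair z g q) ∧ q ≠ v ∧ q ≠ v * z := by
    intro s hs
    obtain ⟨hne, hsF⟩ := Finset.mem_erase.1 hs
    obtain ⟨q, hq, e⟩ := s.2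
    have es : s = ⟨{q, q * z}, q, hq, rfl⟩ := Subtype.ext e
    rw [es] at hsF hne
    have hfx := (hfixed hq).1 hsF
    refine ⟨q, hq, es, by_contra fun hc => ?_, hfx, ?_, ?_⟩
    · obtain ⟨g, hg, hgn⟩ := hcon q hq hc
      exact hgn (hfx g hg)
    · rintro rfl; exact hne rfl
    · rintro rfl
      exact hne (Subtype.ext (by
        show ({v * z, v * z * z} : Finset G) = {v, v * z}
        rw [mul_assoc, sq_one h.root hz, mul_one, Finset.pair_comm]))
  have hprod : ∀ {q : G}, Nbr D z q → Commute q v → q ≠ v → q ≠ v * z → Nbr D z (v * q) :=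
    fun {q} hq hc hne hne' => ⟨h.mul_mem_of_commute hv.mem hq.mem hc.symm hne.symm,
      hv.comm.mul_left hq.comm, fun e => hne' (by rw [← e, cancel h.root hv.mem])⟩
  have heven : Even (F.erase sv).card := by
    refine even_card_of_involution _ (fun s hs => ⟨s.1.image (v * ·), by
      obtain ⟨q, hq, e, hc, -, hne, hne'⟩ := hpair s hs
      exact ⟨v * q, hprod hq hc hne hne', by
        rw [e, Finset.image_insert, Finset.image_singleton, mul_assoc]⟩⟩)
      (fun s hs e => ?_) (fun s hs => ?_) (fun s hs => ?_)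
    · obtain ⟨q, hq, es, hc, -, hne, hne'⟩ := hpair s hs
      subst es
      have e2 : ({q, q * z} : Finset G).image (v * ·) = {q, q * z} := congrArg Subtype.val e
      have h2 : v * q ∈ ({q, q * z} : Finset G) := by
        rw [← e2]
        exact Finset.mem_image_of_mem _ (Finset.mem_insert_self _ _)
      rcases Finset.mem_insert.1 h2 with e' | e'
      · exact ne_one h.root hv.mem (mul_eq_right.1 e')
      · rw [Finset.mem_singleton, hc.symm.eq] at e'
        exact hv.ne (mul_left_cancel e')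
    · obtain ⟨q, hq, es, hc, hfx, hne, hne'⟩ := hpair s hs
      subst es
      rw [Finset.mem_erase]
      have hn := hprod hq hc hne hne'
      have e1 : ∀ hp, (⟨({q, q * z} : Finset G).image (v * ·), hp⟩ : Pr) =
          ⟨{v * q, v * q * z}, v * q, hn, rfl⟩ := fun _ => Subtype.ext (by
        show ({q, q * z} : Finset G).image (v * ·) = {v * q, v * q * z}
        rw [Finset.image_insert, Finset.image_singleton, mul_assoc])
      rw [e1]
      refine ⟨fun e => ?_, (hfixed hn).2 fun g hg => ?_⟩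
      · have e2 : ({v * q, v * q * z} : Finset G) = {v, v * z} := congrArg Subtype.val e
        have h2 : v * q ∈ ({v, v * z} : Finset G) := by
          rw [← e2]
          exact Finset.mem_insert_self _ _
        rcases Finset.mem_insert.1 h2 with e' | e'
        · exact ne_one h.root hq.mem (mul_eq_left.1 e')
        · exact hq.ne (mul_left_cancel (Finset.mem_singleton.1 e'))
      · have hgc : g * (v * q) * g⁻¹ = g * v * g⁻¹ * (g * q * g⁻¹) := by group
        rw [FixPair, hgc]
        rcases hXv g hg with a | a <;> rcases hfx g hg with b | b <;> rw [a, b]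
        · exact Or.inl rfl
        · exact Or.inr (mul_assoc _ _ _).symm
        · refine Or.inr ?_
          rw [mul_assoc v z q, hq.comm.symm.eq, mul_assoc]
        · refine Or.inl ?_
          rw [mul_assoc v z, ← mul_assoc z q z, hq.comm.symm.eq, mul_assoc q z z,
            sq_one h.root hz, mul_one]
    · refine Subtype.ext ?_
      show (s.1.image (v * ·)).image (v * ·) = s.1
      rw [Finset.image_image]
      exact (Finset.image_congr fun t _ => cancel h.root hv.mem t).trans Finset.image_id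
  obtain ⟨k, hk⟩ := heven
  have := Finset.card_erase_add_one hsv
  omega

/-- `2`-elements centralising `z` and a neighbour square to one. -/
theorem sq_eq_one (hx : Exotic D R) (P : Sylow 2 G) (hP : ∀ g ∈ (P : Subgroup G), Commute g z)
    {u : G} (hu : Bad D R u) (huP : u ∈ (P : Subgroup G)) {q : G} (hq : Nbr D z q) {x : G}
    (hx2 : IsPGroup 2 (Subgroup.zpowers x)) (hxz : Commute x z) (hxq : Commute x q) :
    x * x = 1 := by
  classical
  haveI := Fact.mk Nat.prime_two
  by_contra hxx
  set C : Subgroup G := Subgroup.centralizer ({z} : Set G) ⊓ Subgroup.centralizer ({q} : Set G)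
    with hC
  have hmemC : ∀ {g : G}, g ∈ C ↔ Commute g z ∧ Commute g q := fun {g} => by
    rw [hC, Subgroup.mem_inf, Subgroup.mem_centralizer_singleton_iff,
      Subgroup.mem_centralizer_singleton_iff]
    rfl
  have hxC : Subgroup.zpowers x ≤ C := Subgroup.zpowers_le.2 (hmemC.2 ⟨hxz, hxq⟩)
  obtain ⟨S, hS⟩ := (hx2.of_equiv (Subgroup.subgroupOfEquivOfLe hxC).symm).exists_le_sylow
  set X : Subgroup G := (S : Subgroup C).map C.subtype with hX
  have hXC : X ≤ C := Subgroup.map_subtype_le _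
  have hX2 : IsPGroup 2 X := S.isPGroup'.map _
  have hxX : x ∈ X := ⟨⟨x, hxC (Subgroup.mem_zpowers x)⟩,
    hS (Subgroup.mem_subgroupOf.2 (Subgroup.mem_zpowers x)), rfl⟩
  have hmax : ∀ Y : Subgroup G, IsPGroup 2 Y → Y ≤ C → X ≤ Y → Y ≤ X := fun Y hY hYC hXY y hy => by
    have h1 : Y.subgroupOf C = (S : Subgroup C) :=
      S.is_maximal' (hY.of_equiv (Subgroup.subgroupOfEquivOfLe hYC).symm) fun w hw =>
        Subgroup.mem_subgroupOf.2 (hXY ⟨w, hw, rfl⟩)
    exact ⟨⟨y, hYC hy⟩, h1 ▸ Subgroup.mem_subgroupOf.2 hy, rfl⟩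
  set Sq : Subgroup G := Subgroup.closure {t | ∃ g ∈ X, t = g * g} with hSq
  have hSqX : Sq ≤ X := (Subgroup.closure_le X).2 (by
    rintro _ ⟨g, hg, rfl⟩; exact mul_mem hg hg)
  have hSqn : ∀ n ∈ Subgroup.normalizer (X : Set G), ∀ k ∈ Sq, n * k * n⁻¹ ∈ Sq := by
    intro n hn k hk
    induction hk using Subgroup.closure_induction with
    | mem k hk =>
      obtain ⟨g, hg, rfl⟩ := hk
      exact Subgroup.subset_closure ⟨n * g * n⁻¹, (Subgroup.mem_normalizer_iff.1 hn g).1 hg,
        by group⟩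
    | one => simp
    | mul k l _ _ h1 h2 => simpa [mul_assoc] using mul_mem h1 h2
    | inv k _ h1 => simpa [mul_assoc] using inv_mem h1
  have hkey : ∀ v ∈ Sq, v ≠ 1 → v * v = 1 → (∀ g ∈ X, Commute g v) → v = z := by
    intro v hv hv1 hv2 hvc
    by_contra hvz
    obtain ⟨hvz', hvq⟩ := hmemC.1 (hXC (hSqX hv))
    have hvN : Nbr D z v :=
      ⟨h.mem_of_commute_tri hx hv2 hv1 (h.nbr_tri hz hq) hvz' hvq, hvz', hvz⟩
    obtain ⟨w, hw, hwv, hXw⟩ := h.exists_other_pair hz hx P hP hu huP hX2
      (fun g hg => (hmemC.1 (hXC hg)).1) hvN fun g hg => Or.inl (mul_inv_eq_iff_eq_mul.2 (hvc g hg).eq)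
    have hle : Sq ≤ Subgroup.centralizer ({w} : Set G) := (Subgroup.closure_le _).2 (by
      rintro _ ⟨g, hg, rfl⟩
      refine Subgroup.mem_centralizer_singleton_iff.2 (mul_inv_eq_iff_eq_mul.1 ?_)
      rw [show g * g * w * (g * g)⁻¹ = g * (g * w * g⁻¹) * g⁻¹ by group]
      rcases hXw g hg with e | e
      · rw [e, e]
      · rw [e, h.conj_mul_right hz (hmemC.1 (hXC hg)).1, e, mul_assoc, sq_one h.root hz, mul_one])
    exact hwv (show Commute v w from
      Subgroup.mem_centralizer_singleton_iff.1 (hle hv)).symm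
  obtain ⟨v, hv, hv1, hv2, hvc⟩ := exists_central_involution_mem hX2 hSqX
    (fun g hg => hSqn g (Subgroup.le_normalizer hg)) (fun e => hxx (Subgroup.mem_bot.1
      (e ▸ Subgroup.subset_closure ⟨x, hxX, rfl⟩)))
  obtain rfl := hkey v hv hv1 hv2 hvc
  -- a Sylow subgroup centralising `q` and containing `X`
  obtain ⟨k, hk⟩ := h.exists_conj hz hq.mem
  have hP' : (((MulAut.conj k) • P : Sylow 2 G) : Subgroup G) ≤
      Subgroup.centralizer ({q} : Set G) := by
    intro y hy
    obtain ⟨p, hp, rfl⟩ := hy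
    rw [Subgroup.mem_centralizer_singleton_iff, ← hk]
    exact ((hP p hp).conj k).eq
  obtain ⟨g, hg, hgX⟩ := exists_conj_into ((MulAut.conj k) • P) hP' hX2 (hXC.trans inf_le_right)
  set K : Subgroup G := (((MulAut.conj k) • P : Sylow 2 G) : Subgroup G).map
    (MulAut.conj g⁻¹).toMonoidHom with hK
  have hK2 : IsPGroup 2 K := (Sylow.isPGroup' _).map _
  have hXK : X ≤ K := fun y hy => ⟨g * y * g⁻¹, hgX y hy, by simp [mul_assoc]⟩
  have hKq : ∀ y ∈ K, Commute y q := by
    rintro _ ⟨y, hy, rfl⟩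
    have hgq : g⁻¹ * q * g⁻¹⁻¹ = q := by
      rw [inv_inv, mul_assoc, ← (show Commute g q from
        Subgroup.mem_centralizer_singleton_iff.1 hg).eq, inv_mul_cancel_left]
    have h1 := (show Commute y q from Subgroup.mem_centralizer_singleton_iff.1 (hP' hy)).conj g⁻¹
    rw [hgq] at h1
    simpa using h1
  have hKcard : Nat.card K = Nat.card (P : Subgroup G) := by
    rw [hK, Subgroup.card_map_of_injective (MulAut.conj g⁻¹).injective]
    exact Subgroup.card_map_of_injective (MulAut.conj k).injective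
  have hlt : X < K := by
    refine lt_of_le_of_ne hXK fun e => ?_
    obtain ⟨c, hc, hcX⟩ := exists_conj_into P
      (fun y hy => Subgroup.mem_centralizer_singleton_iff.2 (hP y hy).eq) hX2
      (hXC.trans inf_le_left)
    have hcz : Commute c v := Subgroup.mem_centralizer_singleton_iff.1 hc
    have hmap : X.map (MulAut.conj c).toMonoidHom = (P : Subgroup G) := by
      refine Subgroup.eq_of_le_of_card_ge ?_ ?_
      · rintro _ ⟨y, hy, rfl⟩; exact hcX y hy
      · rw [Subgroup.card_map_of_injective (MulAut.conj c).injective, e, hKcard]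
    refine h.no_fixed_pair hz hx P hP hu huP (h.nbr_conj hz hq hcz) fun y hy => Or.inl ?_
    rw [← hmap] at hy
    obtain ⟨y, hyX, rfl⟩ := hy
    exact mul_inv_eq_iff_eq_mul.2 (((hmemC.1 (hXC hyX)).2.conj c).eq)
  obtain ⟨t, htK, htN, htX⟩ := SwapInjective.exists_normalizer_not_mem hK2 hlt
  have htv : t * v * t⁻¹ = v := hkey _ (hSqn t htN v hv)
    (fun e => hv1 ((MulAut.conj t).map_eq_one_iff.1 (by simpa using e)))
    (by rw [show t * v * t⁻¹ * (t * v * t⁻¹) = t * (v * v) * t⁻¹ by group, hv2]; group)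
    fun y hy => by
      have h1 := (hvc (t⁻¹ * y * t) (by
        simpa using (Subgroup.mem_normalizer_iff.1 (inv_mem htN) y).1 hy)).conj t
      rwa [show t * (t⁻¹ * y * t) * t⁻¹ = y by group] at h1
  have hle : K ⊓ C ≤ X := hmax _ (hK2.to_le inf_le_left) inf_le_right (le_inf hXK hXC)
  exact htX (hle ⟨htK, hmemC.2 ⟨mul_inv_eq_iff_eq_mul.1 htv, hKq t htK⟩⟩)

end Setup

end CfsgLib.LocalEven.RootReduction
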