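import Cfsg.Agent.Lib.LocalEven.RootReduction.Bad
import Cfsg.Agent.Lib.Fusion.ThompsonTransfer

/-!
# Tools for the configuration without triangles in centralisers of bad involutions

Bad involutions centralising a member are conjugate in the centraliser of that member as soon as they
are conjugate, the number of members is odd, an involution centralising a triangle is a member, and
Thompson transfer applies.
-/

set_option autoImplicit false
set_option linter.style.haveILetI false

namespace CfsgLib.LocalEven.RootReduction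

open Cfsg CfsgLib.Perm.RootInvolution CfsgLib.Involution

variable {G : Type*} [Group G] {D : Set G} {R : G → G → Prop}

/-- No bad involution centralises two distinct commuting members. -/
def Exotic (D : Set G) (R : G → G → Prop) : Prop :=
  ∀ u, Bad D R u → ∀ f ∈ D, ∀ f' ∈ D, Commute u f → Commute u f' → Commute f f' → f = f'

/-- A nontrivial normal subgroup of a `2`-subgroup contains a central involution. -/
theorem exists_central_involution_mem [Finite G] {P K : Subgroup G} (hP : IsPGroup 2 P)
    (hKP : K ≤ P) (hn : ∀ g ∈ P, ∀ k ∈ K, g * k * g⁻¹ ∈ K) (hK : K ≠ ⊥) :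
    ∃ v ∈ K, v ≠ 1 ∧ v * v = 1 ∧ ∀ g ∈ P, Commute g v := by
  letI : MulAction P K :=
    { smul := fun g k => ⟨(g : G) * k * (g : G)⁻¹, hn g g.2 k k.2⟩
      one_smul := fun k => Subtype.ext (by
        show ((1 : P) : G) * (k : G) * ((1 : P) : G)⁻¹ = k
        simp)
      mul_smul := fun g g' k => Subtype.ext (by
        show ((g * g' : P) : G) * (k : G) * ((g * g' : P) : G)⁻¹ =
          (g : G) * ((g' : G) * (k : G) * (g' : G)⁻¹) * (g : G)⁻¹
        simp [mul_assoc]) }
  haveI := Fact.mk Nat.prime_two
  have h2 : 2 ∣ Nat.card K := by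
    obtain ⟨n, hn'⟩ := (hP.to_le hKP).exists_card_eq
    rcases n with _ | n
    · exact absurd (Subgroup.eq_bot_of_card_eq K (by simpa using hn')) hK
    · exact hn' ▸ dvd_pow_self 2 n.succ_ne_zero
  obtain ⟨c, hc, hc1⟩ := hP.exists_fixed_point_of_prime_dvd_card_of_fixed_point K h2
    (a := (1 : K)) (fun g => Subtype.ext (by
      show (g : G) * ((1 : K) : G) * (g : G)⁻¹ = ((1 : K) : G)
      simp))
  have hcc : ∀ g ∈ P, Commute g (c : G) := fun g hg =>
    mul_inv_eq_iff_eq_mul.1 (congrArg Subtype.val (hc ⟨g, hg⟩))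
  obtain ⟨i, hi⟩ := IsPGroup.iff_orderOf.1 (hP.to_le hKP) c
  rcases i with _ | i
  · exact absurd (orderOf_eq_one_iff.1 (hi.trans (pow_zero 2))).symm hc1
  refine ⟨(c : G) ^ 2 ^ i, pow_mem c.2 _, fun e => ?_, ?_, fun g hg => (hcc g hg).pow_right _⟩
  · have := Nat.le_of_dvd (pow_pos two_pos i) (orderOf_dvd_of_pow_eq_one e)
    rw [Subgroup.orderOf_coe, hi, pow_succ] at this
    have := pow_pos two_pos (M₀ := ℕ) i
    omega
  · rw [← pow_add, ← two_mul, ← pow_succ']
    rw [← hi, ← Subgroup.orderOf_coe]
    exact pow_orderOf_eq_one _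

/-- A finite set with a fixed-point-free involution has even order. -/
theorem even_card_of_involution {α : Type*} (s : Finset α) (σ : ∀ a ∈ s, α)
    (hne : ∀ a (ha : a ∈ s), σ a ha ≠ a) (hmem : ∀ a (ha : a ∈ s), σ a ha ∈ s)
    (hinv : ∀ a (ha : a ∈ s), σ (σ a ha) (hmem a ha) = a) : Even s.card := by
  have h : ∑ _a ∈ s, (1 : ZMod 2) = 0 :=
    Finset.sum_involution σ (fun _ _ => by decide) (fun a ha _ => hne a ha) hmem hinv
  rw [Finset.sum_const, nsmul_eq_mul, mul_one, ZMod.natCast_eq_zero_iff_even] at h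
  exact h

namespace Setup

variable (h : Setup D R)
include h

/-- The number of members is odd. -/
theorem odd_card [Finite G] : Odd (Nat.card D) := by
  classical
  haveI := Fintype.ofFinite G
  obtain ⟨x, y, ht⟩ := h.tri
  have hd := ht.left
  rw [Nat.card_eq_fintype_card, ← Set.toFinset_card,
    ← Finset.card_erase_add_one (Set.mem_toFinset.2 hd)]
  refine Even.add_one ?_
  refine even_card_of_involution _ (fun e _ => if Commute x e then x * e else x * e * x)
    (fun e he => ?_) (fun e he => ?_) (fun e he => ?_)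
  all_goals
    rw [Finset.mem_erase, Set.mem_toFinset] at he
  · by_cases hc : Commute x e
    · rw [if_pos hc]
      exact fun e' => ne_one h.root hd (mul_eq_right.1 e')
    · rw [if_neg hc]
      exact fun e' => hc (commute_of_conj_eq h.root hd e')
  · rw [Finset.mem_erase, Set.mem_toFinset]
    by_cases hc : Commute x e
    · rw [if_pos hc]
      exact ⟨fun e' => ne_one h.root he.2 (mul_eq_left.1 e'),
        h.mul_mem_of_commute hd he.2 hc he.1.symm⟩
    · rw [if_neg hc]
      refine ⟨fun e' => hc ?_, conj_self_mem h.root hd he.2⟩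
      have : e = x := by
        have := congrArg (fun t => x * t * x) e'
        simpa [conj_conj h.root hd, sq_one h.root hd] using this
      exact this ▸ Commute.refl x
  · by_cases hc : Commute x e
    · simp only [if_pos hc, if_pos ((Commute.refl x).mul_right hc)]
      exact cancel h.root hd e
    · have hc' : ¬ Commute x (x * e * x) := fun e' => hc (by
        have h1 := conj_eq_of_commute h.root hd e'
        rw [conj_conj h.root hd] at h1
        exact h1.symm ▸ e')
      simp only [if_neg hc, if_neg hc']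
      exact conj_conj h.root hd e

/-- Conjugate bad involutions centralising a member are conjugate in its centraliser. -/
theorem exists_conj_fixing_member {u v z g : G} (hu : Bad D R u) (hz : z ∈ D)
    (huz : Commute u z) (hvz : Commute v z) (hg : g * u * g⁻¹ = v) :
    ∃ k, Commute k z ∧ k * u * k⁻¹ = v := by
  have hcu : Commute u (g⁻¹ * z * g) := by
    have h1 := hvz.conj g⁻¹
    rwa [← hg, show g⁻¹ * (g * u * g⁻¹) * g⁻¹⁻¹ = u by group, inv_inv] at h1
  have hgz : g⁻¹ * z * g ∈ D := by simpa using h.root.conj_mem z hz g⁻¹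
  obtain ⟨k, hku, hkz⟩ := h.exists_conj_bad hu hz hgz huz hcu
  refine ⟨g * k, mul_inv_eq_iff_eq_mul.1 ?_, ?_⟩
  · rw [show g * k * z * (g * k)⁻¹ = g * (k * z * k⁻¹) * g⁻¹ by group, hkz]; group
  · rw [show g * k * u * (g * k)⁻¹ = g * (k * u * k⁻¹) * g⁻¹ by group, hku.eq,
      mul_inv_cancel_right, hg]

/-- In the exotic case an involution commuting with a triangle is a member. -/
theorem mem_of_commute_tri (hx : Exotic D R) {v x y : G} (hv : v * v = 1) (hv1 : v ≠ 1)
    (ht : Tri D x y) (hvx : Commute v x) (hvy : Commute v y) : v ∈ D := by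
  have hnb : ¬ Bad D R v := fun hb => ht.ne h.root (hx v hb x ht.left y ht.right hvx hvy ht.comm)
  have hone : ∀ e ∈ D, Fix R v e → R x e := fun e he hfe => by_contra fun hn =>
    hnb ⟨hv, hv1, x, ht.left, e, he, hn, h.fix_of_commute hvx, hfe⟩
  obtain ⟨p, hp, hmv⟩ := h.exists_moved hv hv1
  obtain ⟨f, hf, hvf, hvfp, hfp⟩ := h.middle_of_moved hv hp hmv
  have hxf : R x f := hone f hf (h.fix_of_commute hvf)
  by_cases hb1 : v * f = 1
  · rw [mul_eq_one_iff_eq_inv, inv_eq h.root hf] at hb1
    exact hb1 ▸ hf
  exfalso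
  have hb : Bad D R (v * f) :=
    ⟨by rw [hvf.symm.mul_mul_mul_comm, hv, sq_one h.root hf, one_mul], hb1, f, hf, p, hp, hfp,
      h.fix_of_commute (hvf.mul_left (Commute.refl f)), h.fix_of_commute hvfp⟩
  have key : ∀ q, Tri D f q → Commute v q → False := fun q hq hvq =>
    hq.ne h.root (hx _ hb f hf q hq.right (hvf.mul_left (Commute.refl f))
      (hvq.mul_left hq.comm) hq.comm)
  by_cases hc : Commute f x
  · by_cases hfx : f = x
    · exact key y (hfx ▸ ht) hvy
    · exact key x (h.tri_of_commute hf ht.left hc hfx) hvx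
  by_cases ho : OddAdj D x f
  · obtain ⟨k, ⟨i, rfl⟩, hk⟩ := Dihedral.exists_conj_of_odd (h.root.orderOf_eq x ht.left)
      (h.root.orderOf_eq f hf) ho.2.2.2
    have hvk : Commute v ((x * f) ^ i) := (hvx.mul_right hvf).zpow_right i
    refine key _ (hk ▸ ht.conj h.root ((x * f) ^ i)) ?_
    exact (hvk.mul_right hvy).mul_right hvk.inv_right
  · obtain ⟨-, htf⟩ := tri_bracket h.root ht.left hf ho fun e => hc e.symm
    exact key _ htf (((hvx.mul_right hvf).mul_right hvx).mul_right hvf)

omit h in
/-- A subgroup of index two contains all members. -/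
theorem not_index_two (h : Setup D R) {M : Subgroup G} [M.Normal] (hM : M.index = 2) : False := by
  obtain ⟨x, y, ht⟩ := h.tri
  have hxy := Subgroup.mul_mem_iff_of_index_two hM (a := x) (b := y)
  have hall : ∀ d ∈ D, d ∈ M ↔ x ∈ M := fun d hd => by
    obtain ⟨g, rfl⟩ := h.exists_conj ht.left hd
    exact ⟨fun e => by simpa [mul_assoc] using ‹M.Normal›.conj_mem _ e g⁻¹,
      fun e => ‹M.Normal›.conj_mem _ e g⟩
  have hxM : x ∈ M := by
    by_contra hx
    have h1 : x * y ∈ M :=
      hxy.2 (iff_of_false hx fun e => hx ((hall y ht.right).1 e))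
    exact hx ((hall _ ht.mem).1 h1)
  have htop : M = ⊤ := top_le_iff.1 (h.root.generates ▸
    (Subgroup.closure_le M).2 fun d hd => (hall d hd).2 hxM)
  rw [htop, Subgroup.index_top] at hM
  exact absurd hM (by norm_num)

/-- Thompson transfer: an involution outside a subgroup of index two of a Sylow subgroup has a
conjugate in it. -/
theorem exists_conj_mem [Finite G] (P : Sylow 2 G) {Q : Subgroup G} (hQP : Q ≤ (P : Subgroup G))
    (hQi : Q.relIndex (P : Subgroup G) = 2) {u : G} (hu : u * u = 1) (huP : u ∈ (P : Subgroup G))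
    (huQ : u ∉ Q) : ∃ g : G, g * u * g⁻¹ ∈ Q := by
  rcases CfsgLib.Fusion.ThompsonTransfer.thompson_transfer P Q hQP hQi u (by rw [pow_two, hu]) huP
    huQ with ⟨M, hMn, hMi, -⟩ | hg
  · exact (h.not_index_two hMi).elim
  · exact hg

end Setup

end CfsgLib.LocalEven.RootReduction
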