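import Cfsg.Agent.Lib.LocalEven.RootReduction.Basic
import Cfsg.Agent.Lib.Involution.StronglyEmbedded
import Cfsg.Agent.Lib.LocalEven.StronglyEmbedded
import Cfsg.Agent.Lib.RankOne.Split.Bender
import Cfsg.Agent.Lib.LocalEven.BenderSplit.SplitTheorem

/-!
# Root involutions when no involution fixes two classes

The stabiliser of a class is then strongly embedded. Modulo the elements fixing every class, which
are central, it is the normaliser of a Sylow 2-subgroup, and all its involutions are conjugate in it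
to a central involution of that subgroup; so they commute, and related members commute.
-/

set_option autoImplicit false
set_option linter.style.haveILetI false

namespace CfsgLib.LocalEven.RootReduction

open Cfsg CfsgLib.Perm.RootInvolution CfsgLib.Involution

/-- The involutions of a core-free strongly embedded subgroup commute (rank at least two). -/
theorem commute_of_core_free {G : Type*} [Group G] [Finite G] {H : Subgroup G}
    (hH : IsStronglyEmbedded H) (hcore : H.normalCore = ⊥)
    (h4 : CfsgLib.RankOne.SplitBender.HasFour G) {s t : G} (hs : s ∈ H) (hs2 : orderOf s = 2)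
    (ht : t ∈ H) (ht2 : orderOf t = 2) : Commute s t := by
  classical
  haveI : Fact (Nat.Prime 2) := ⟨Nat.prime_two⟩
  obtain ⟨S, hS⟩ := CfsgLib.RankOne.SplitBender.exists_sylow_normalizer
    (CfsgLib.LocalEven.BenderSplit.setupExists_of_min CfsgLib.LocalEven.BenderSplit.splitMin)
    hH hcore h4
  have hin : ∀ {x : G}, x ∈ H → orderOf x = 2 → x ∈ (S : Subgroup G) := by
    intro x hx hx2
    have hX : IsPGroup 2 ↥(Subgroup.zpowers x) :=
      IsPGroup.of_card (n := 1) (by rw [pow_one, Nat.card_zpowers, hx2])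
    have hle : Subgroup.zpowers x ≤ Subgroup.normalizer ((S : Subgroup G) : Set G) :=
      Subgroup.zpowers_le.2 (hS ▸ hx)
    have hsup := S.is_maximal' (IsPGroup.to_sup_of_normal_left' S.isPGroup' hX hle) le_sup_left
    exact hsup ▸ Subgroup.mem_sup_right (Subgroup.mem_zpowers x)
  haveI : Nontrivial (S : Subgroup G) :=
    ⟨⟨⟨s, hin hs hs2⟩, 1, fun e => Dihedral.ne_one hs2 (congrArg Subtype.val e)⟩⟩
  haveI : Finite (S : Subgroup G) := inferInstance
  haveI := S.isPGroup'.center_nontrivial
  obtain ⟨z, hz, hz2⟩ := CfsgLib.LocalEven.StronglyEmbedded.exists_order_p (p := 2)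
    (Q := (Subgroup.center (S : Subgroup G)).map (S : Subgroup G).subtype)
    ((S.isPGroup'.to_subgroup _).map _) (by
      rw [Ne, Subgroup.map_eq_bot_iff_of_injective _ (S : Subgroup G).subtype_injective]
      exact (Subgroup.nontrivial_iff_ne_bot _).1 inferInstance)
  obtain ⟨⟨z', hz'S⟩, hzc, hzz⟩ := hz
  change z' = z at hzz
  subst hzz
  obtain ⟨g, hg⟩ := isConj_iff.1 (SE.all_conj hH hz2 hs2)
  have hgN : g ∈ Subgroup.normalizer ((S : Subgroup G) : Set G) :=
    hS ▸ SE.mem_of_conj_mem hH (hS ▸ Subgroup.le_normalizer hz'S) hz2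
      (hg ▸ hs)
  have ht' : g⁻¹ * t * g ∈ (S : Subgroup G) := by
    have h1 := (Subgroup.mem_normalizer_iff.1 (inv_mem hgN) t).1 (hin ht ht2)
    rwa [inv_inv] at h1
  have h2 : Commute z' (g⁻¹ * t * g) :=
    (congrArg Subtype.val (Subgroup.mem_center_iff.1 hzc ⟨_, ht'⟩)).symm
  have h3 := h2.conj g
  rwa [hg, show g * (g⁻¹ * t * g) * g⁻¹ = t by group] at h3

variable {G : Type*} [Group G] {D : Set G} {R : G → G → Prop}

namespace Setup

variable (h : Setup D R)
include h

/-- A central element squaring to one is trivial. -/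
theorem eq_one_of_central {c : G} (hc : c ∈ Subgroup.center G) (h2 : c * c = 1) : c = 1 := by
  by_contra h1
  obtain ⟨p, -, hp⟩ := h.exists_moved h2 h1
  exact hp (h.fix_of_commute (Subgroup.mem_center_iff.1 hc p).symm)

/-- If no involution fixes two classes, related members commute. -/
theorem commute_of_one_class [Finite G]
    (hnb : ∀ v : G, orderOf v = 2 → ∀ a ∈ D, ∀ b ∈ D, Fix R v a → Fix R v b → R a b)
    {a b : G} (ha : a ∈ D) (hb : b ∈ D) (hab : R a b) : Commute a b := by
  classical
  let M : Subgroup G :=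
    { carrier := {g | Fix R g a}
      one_mem' := h.fix_of_commute (Commute.one_left a)
      mul_mem' := fun hg hk => h.fix_mul hg hk
      inv_mem' := fun hg => h.fix_inv hg }
  have hM : ∀ {g : G}, g ∈ M ↔ Fix R g a := Iff.rfl
  have haM : a ∈ M := hM.2 (h.fix_of_commute (Commute.refl a))
  have hbM : b ∈ M := hM.2 (h.fix_of_commute_rel (Commute.refl b) (h.symm hab))
  have hSE : IsStronglyEmbedded M := by
    refine ⟨fun e => ?_, even_iff_two_dvd.2
      (h.root.orderOf_eq a ha ▸ Subgroup.orderOf_dvd_natCard _ haM), fun g hg => ?_⟩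
    · obtain ⟨c, hc, hac⟩ := h.exists_not_rel a
      exact hac (h.symm (h.rel_of_fix hc ha (hM.1 (e ▸ Subgroup.mem_top c))))
    · by_contra hev
      rw [Nat.not_odd_iff_even] at hev
      obtain ⟨v, hv, hv2⟩ := Involution.Basic.exists_involution_of_even _ hev
      obtain ⟨hva, m, hm, hmv⟩ := Subgroup.mem_inf.1 hv
      have hfix : Fix R v (g * a * g⁻¹) := by
        rw [← hmv]
        exact (h.fix_conj_iff g).2 (hM.1 hm)
      exact hg (hM.2 (h.symm (hnb v hv2 a ha _ (h.root.conj_mem a ha g) (hM.1 hva) hfix)))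
  set C := M.normalCore with hC
  have hCM : C ≤ M := M.normalCore_le
  have hCc : ∀ c ∈ C, c ∈ Subgroup.center G := fun c hc => h.mem_center_of_fix_all fun e he => by
    obtain ⟨g, rfl⟩ := h.exists_conj ha he
    have h1 := hM.1 (hCM ((Subgroup.normalCore_normal M).conj_mem c hc g⁻¹))
    rw [← h.fix_conj_iff g, show g * (g⁻¹ * c * g⁻¹⁻¹) * g⁻¹ = c by group] at h1
    exact h1
  set π := QuotientGroup.mk' C with hπ
  have hinv : ∀ {t : G}, orderOf t = 2 → π t ≠ 1 ∧ π t * π t = 1 := fun {t} ht =>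
    ⟨fun e => Dihedral.ne_one ht (h.eq_one_of_central (hCc t ((QuotientGroup.eq_one_iff t).1 e))
      (Dihedral.mul_self ht)), by rw [← map_mul, Dihedral.mul_self ht, map_one]⟩
  have hπM : ∀ {g : G}, π g ∈ M.map π → g ∈ M := fun {g} hg => by
    obtain ⟨m, hm, e⟩ := hg
    have h1 : m⁻¹ * g ∈ C := QuotientGroup.eq.1 e
    simpa using mul_mem hm (hCM h1)
  have hSE' : IsStronglyEmbedded (M.map π) := by
    refine ⟨fun e => hSE.1 (eq_top_iff.2 fun g _ => hπM (e ▸ Subgroup.mem_top _)), ?_, fun q hq => ?_⟩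
    · obtain ⟨h1, h2⟩ := hinv (h.root.orderOf_eq a ha)
      exact even_iff_two_dvd.2 (Dihedral.orderOf_eq_two h2 h1 ▸
        Subgroup.orderOf_dvd_natCard _ (Subgroup.mem_map_of_mem π haM))
    · obtain ⟨g, rfl⟩ := QuotientGroup.mk'_surjective C q
      refine (hSE.2.2 g fun e => hq (Subgroup.mem_map_of_mem π e)).of_dvd_nat
        ((Subgroup.card_dvd_of_le ?_).trans (Subgroup.card_map_dvd _ π))
      rintro _ ⟨⟨k, hk, rfl⟩, ⟨_, ⟨l, hl, rfl⟩, e⟩⟩
      refine ⟨k, ⟨hk, g⁻¹ * k * g, hπM ?_, by simp [mul_assoc]⟩, rfl⟩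
      change π g * π l * (π g)⁻¹ = π k at e
      rw [map_mul, map_mul, map_inv, ← e]
      exact ⟨l, hl, by group⟩
  have hcore : (M.map π).normalCore = ⊥ := by
    haveI : (M.map π).normalCore.Normal := Subgroup.normalCore_normal _
    have h1 : (M.map π).normalCore.comap π ≤ C :=
      Subgroup.normal_le_normalCore.2 fun g hg => hπM (Subgroup.normalCore_le _ hg)
    refine (Subgroup.eq_bot_iff_forall _).2 fun q hq => ?_
    obtain ⟨g, rfl⟩ := QuotientGroup.mk'_surjective C q
    exact (QuotientGroup.eq_one_iff g).2 (h1 hq)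
  obtain ⟨x, y, ht⟩ := h.tri
  have h4 : CfsgLib.RankOne.SplitBender.HasFour (G ⧸ C) := by
    refine ⟨π x, π y, (hinv (h.root.orderOf_eq x ht.left)).1, (hinv (h.root.orderOf_eq y ht.right)).1,
      fun e => ?_, (hinv (h.root.orderOf_eq x ht.left)).2, (hinv (h.root.orderOf_eq y ht.right)).2,
      by rw [← map_mul, ← map_mul, ht.comm.eq]⟩
    refine ne_one h.root ht.mem (h.eq_one_of_central (hCc _ ?_) (sq_one h.root ht.mem))
    rw [← QuotientGroup.eq_one_iff]
    change π (x * y) = 1
    rw [map_mul, e, (hinv (h.root.orderOf_eq y ht.right)).2]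
  have hord : ∀ {d : G}, d ∈ D → orderOf (π d) = 2 := fun hd =>
    Dihedral.orderOf_eq_two (hinv (h.root.orderOf_eq _ hd)).2 (hinv (h.root.orderOf_eq _ hd)).1
  have hc := commute_of_core_free hSE' hcore h4 (Subgroup.mem_map_of_mem π haM) (hord ha)
    (Subgroup.mem_map_of_mem π hbM) (hord hb)
  have hker : a * b * a * b ∈ C := by
    rw [← QuotientGroup.eq_one_iff]
    change π (a * b * a * b) = 1
    rw [map_mul, map_mul, map_mul, hc.eq, mul_assoc (π b), (hinv (h.root.orderOf_eq a ha)).2,
      mul_one, (hinv (h.root.orderOf_eq b hb)).2]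
  obtain ⟨c, hcdef⟩ : ∃ c, c = a * b * a * b := ⟨_, rfl⟩
  rw [← hcdef] at hker
  have hcen : ∀ g, g * c = c * g := Subgroup.mem_center_iff.1 (hCc c hker)
  have hab' : a * b * a = c * b := by rw [hcdef, mul_assoc _ b b, sq_one h.root hb, mul_one]
  have hc2 : c * c = 1 := by
    have h1 : a * b * a * (a * b * a) = 1 := by
      simp only [mul_assoc, cancel h.root ha, cancel h.root hb, sq_one h.root ha]
    rwa [hab', ← mul_assoc, mul_assoc c b c, hcen b, mul_assoc c, mul_assoc c, sq_one h.root hb,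
      mul_one] at h1
  have hc1 := h.eq_one_of_central (hCc c hker) hc2
  rw [hc1, one_mul] at hab'
  exact commute_of_conj_eq h.root ha hab'

end Setup

end CfsgLib.LocalEven.RootReduction
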