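import Cfsg.Agent.Lib.LocalEven.RootReduction.Clique
import Cfsg.Agent.Lib.LocalEven.RootReduction.Exotic
import Cfsg.Agent.Lib.LocalEven.RootReduction.NoBad

/-!
# Related members commute

By induction on the order: a bad involution centralising two commuting members reduces to a smaller
setting, otherwise the configuration is exotic, which is impossible with a bad involution; without
bad involutions the stabiliser of a class is strongly embedded.
-/

set_option autoImplicit false

namespace CfsgLib.LocalEven.RootReduction

open Cfsg CfsgLib.Perm.RootInvolution CfsgLib.Involution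

universe u

/-- In every setting, related members commute. -/
theorem Setup.commutes {G : Type u} [Group G] [Finite G] {D : Set G} {R : G → G → Prop}
    (h : Setup D R) : Commutes D R := by
  suffices key : ∀ (n : ℕ), CommutesBelow.{u} n from key _ G D R (Nat.lt_succ_self _) h
  intro n
  induction n with
  | zero => exact fun _ _ _ _ _ hlt _ => absurd hlt (Nat.not_lt_zero _)
  | succ n IH =>
    intro X _ _ E S hlt hS
    rcases Nat.lt_or_ge (Nat.card X) n with hX | hX
    · exact IH X E S hX hS
    have ih : CommutesBelow.{u} (Nat.card X) :=
      fun Y _ _ E' S' hY hS' => IH Y E' S' (hY.trans_le (by omega)) hS'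
    by_cases hbad : ∃ v, Bad E S v
    · obtain ⟨v, hv⟩ := hbad
      by_cases hx : Exotic E S
      · exact (hS.false_of_exotic hx hv).elim
      · rw [Exotic] at hx
        push Not at hx
        obtain ⟨u, hu, f, hf, f', hf', huf, huf', hc, hne⟩ := hx
        exact hS.commutes_of_bad_pair ih hu hf hf' hc hne huf huf'
    · exact fun a ha b hb hab => hS.commute_of_one_class (fun v hv x hx y hy hfx hfy =>
        by_contra fun hn => hbad ⟨v, Dihedral.mul_self hv, Dihedral.ne_one hv, x, hx, y, hy, hn,
          hfx, hfy⟩) ha hb hab

/-- In every setting, no pair of members has a product of order four. -/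
theorem Setup.oddTransposition {G : Type u} [Group G] [Finite G] {D : Set G} {R : G → G → Prop}
    (h : Setup D R) : IsOddTranspositionSet D := by
  refine ⟨h.root, fun a ha b hb h4 => ?_⟩
  have ho : ¬ OddAdj D a b := fun e => by
    have h' := e.2.2.2
    rw [h4] at h'
    exact (by decide : ¬ Odd 4) h'
  have hc := h.commutes a ha b hb (h.rel_of_not_oddAdj ha hb ho)
  have h2 : (a * b) ^ 2 = 1 := by
    rw [hc.mul_pow, pow_two, pow_two, sq_one h.root ha, sq_one h.root hb, one_mul]
  have := Nat.le_of_dvd (by norm_num) (orderOf_dvd_of_pow_eq_one h2)
  omega

end CfsgLib.LocalEven.RootReduction
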