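import Cfsg.Agent.Lib.LocalEven.RootReduction.Basic

/-!
# Products of commuting members are members

An element `w` of the group of a commuting set `A` of members and its translates by members of `A`
cannot both commute with a member outside the class; hence no nontrivial element of that group
commutes with an outside member. From this, the product of two distinct commuting members is a
member.
-/

set_option autoImplicit false

namespace CfsgLib.LocalEven.RootReduction

open Cfsg CfsgLib.Perm.RootInvolution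

variable {G : Type*} [Group G] {D : Set G} {R : G → G → Prop}

/-- `w` commutes with a member outside the class of `a`. -/
def Outside (D : Set G) (R : G → G → Prop) (a w : G) : Prop := ∃ e ∈ D, ¬ R a e ∧ Commute w e

namespace Setup

variable (h : Setup D R) {A : Set G} (hA : A ⊆ D) (hcomm : ∀ x ∈ A, ∀ y ∈ A, Commute x y)
include h hA hcomm

theorem commute_of_mem_closure {x z : G} (hx : x ∈ A) (hz : z ∈ Subgroup.closure A) :
    Commute z x := by
  induction hz using Subgroup.closure_induction with
  | mem y hy => exact hcomm y hy x hx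
  | one => exact Commute.one_left x
  | mul y y' _ _ h1 h2 => exact h1.mul_left h2
  | inv y _ h1 => exact h1.inv_left

theorem mul_self_closure {z : G} (hz : z ∈ Subgroup.closure A) : z * z = 1 := by
  induction hz using Subgroup.closure_induction with
  | mem y hy => exact sq_one h.root (hA hy)
  | one => exact one_mul 1
  | mul y y' hy hy' h1 h2 =>
    have hc : Commute y y' := by
      clear h2
      induction hy' using Subgroup.closure_induction with
      | mem x hx => exact h.commute_of_mem_closure hA hcomm hx hy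
      | one => exact Commute.one_right y
      | mul x x' _ _ e1 e2 => exact e1.mul_right e2
      | inv x _ e1 => exact e1.inv_right
    rw [hc.symm.mul_mul_mul_comm, h1, h2, one_mul]
  | inv y _ h1 => rw [← mul_inv_rev, h1, inv_one]

/-- `w` and a translate cannot both commute with outside members. -/
theorem not_outside_mul {a d w : G} (ha : a ∈ A) (hd : d ∈ A) (hw : w ∈ Subgroup.closure A)
    (hw1 : w ≠ 1) (hwo : Outside D R a w) (hwd1 : w * d ≠ 1) :
    ¬ Outside D R a (w * d) := by
  intro hwdo
  -- the property propagates along the coset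
  let Q : G → Prop := fun x => x ∈ Subgroup.closure A ∧ (x ≠ 1 ∧ Outside D R a x) ∧
    ∀ d' ∈ A, x * d' ≠ 1 ∧ Outside D R a (x * d')
  have hall : ∀ x ∈ Subgroup.closure A, x ≠ 1 → Outside D R a x → ∀ p ∈ A, x * p ≠ 1 →
      Outside D R a (x * p) → Q x := by
    intro x hx hx1 hxo p hp hxp1 hxpo
    refine ⟨hx, ⟨hx1, hxo⟩, fun q hq => ?_⟩
    obtain ⟨e, he, hae, hxe⟩ := hxo
    have hap : R a p := h.of_commute (hA ha) (hA hp) (hcomm a ha p hp)
    have haq : R a q := h.of_commute (hA ha) (hA hq) (hcomm a ha q hq)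
    obtain ⟨k, hkx, hkp, hkf⟩ := h.exists_centralizing (hA hp) (hA hq) (h.trans (h.symm hap) haq) he
      (fun e' => hae (h.trans hap e')) (h.commute_of_mem_closure hA hcomm hp hx)
      (h.commute_of_mem_closure hA hcomm hq hx) hxe
    have hconj : k * (x * p) * k⁻¹ = x * q := by
      calc k * (x * p) * k⁻¹ = k * x * k⁻¹ * (k * p * k⁻¹) := by group
        _ = x * q := by rw [hkx.eq, mul_inv_cancel_right, hkp]
    refine ⟨fun e' => hxp1 ?_, ?_⟩
    · rw [← hconj, ← MulAut.conj_apply] at e'
      exact (MulAut.conj k).map_eq_one_iff.1 e'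
    · obtain ⟨e', he', hae', hxe'⟩ := hxpo
      refine ⟨k * e' * k⁻¹, h.root.conj_mem e' he' k, fun e'' => hae' ?_, hconj ▸ hxe'.conj k⟩
      have hka : Fix R k a := h.fix_congr hkf (h.symm hap)
      exact (h.rel_conj_iff k).1 (h.trans hka e'')
  have hQw : Q w := hall w hw hw1 hwo d hd hwd1 hwdo
  have hstep : ∀ x, Q x → ∀ p ∈ A, Q (x * p) := by
    intro x hx p hp
    refine hall (x * p) (mul_mem hx.1 (Subgroup.subset_closure hp)) (hx.2.2 p hp).1 (hx.2.2 p hp).2
      p hp ?_ ?_ <;> rw [mul_assoc, sq_one h.root (hA hp), mul_one]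
    exacts [hx.2.1.1, hx.2.1.2]
  have hall' : ∀ z ∈ Subgroup.closure A, Q (w * z) := by
    intro z hz
    induction hz using Subgroup.closure_induction_right with
    | one => rwa [mul_one]
    | mul_right x _ y hy ih => rw [← mul_assoc]; exact hstep _ ih y hy
    | mul_inv_cancel x _ y hy ih =>
      rw [inv_eq h.root (hA hy), ← mul_assoc]; exact hstep _ ih y hy
  exact (hall' w⁻¹ (inv_mem hw)).2.1.1 (mul_inv_cancel w)

/-- No nontrivial element of the group of a commuting set commutes with an outside member. -/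
theorem not_outside {a u : G} (ha : a ∈ A) (hu : u ∈ Subgroup.closure A) (hu1 : u ≠ 1) :
    ¬ Outside D R a u := by
  rintro ⟨e, he, hae, hue⟩
  have hu2 := h.mul_self_closure hA hcomm hu
  obtain ⟨p, hp, hmv⟩ := h.exists_moved hu2 hu1
  obtain ⟨f, hf, huf, hufp, hfp⟩ := h.middle_of_moved hu2 hp hmv
  have hua := h.commute_of_mem_closure hA hcomm ha hu
  obtain ⟨k, hku, hkaf⟩ : ∃ k, Commute k u ∧ k * a * k⁻¹ = f := by
    by_cases haf : R a f
    · obtain ⟨k, h1, h2, -⟩ := h.exists_centralizing (hA ha) hf haf he hae hua huf hue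
      exact ⟨k, h1, h2⟩
    · exact h.exists_conj_of_not_rel (hA ha) hf haf hua huf
  set B : Set G := (fun x => k * x * k⁻¹) '' A with hB
  have hBD : B ⊆ D := by
    rintro _ ⟨x, hx, rfl⟩
    exact h.root.conj_mem x (hA hx) k
  have hBc : ∀ x ∈ B, ∀ y ∈ B, Commute x y := by
    rintro _ ⟨x, hx, rfl⟩ _ ⟨y, hy, rfl⟩
    exact (hcomm x hx y hy).conj k
  have huB : u ∈ Subgroup.closure B := by
    have h1 : k * u * k⁻¹ ∈ Subgroup.closure B :=
      (MonoidHom.map_closure (MulAut.conj k).toMonoidHom A).le ⟨u, hu, rfl⟩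
    rwa [hku.eq, mul_inv_cancel_right] at h1
  refine h.not_outside_mul hBD hBc (a := f) (d := f) ⟨a, ha, hkaf⟩ ⟨a, ha, hkaf⟩ huB hu1 ?_ ?_
    ⟨p, hp, hfp, hufp⟩
  · refine ⟨k * e * k⁻¹, h.root.conj_mem e he k, fun e' => hae ?_, ?_⟩
    · rw [← hkaf] at e'
      exact (h.rel_conj_iff k).1 e'
    · have h1 := hue.conj k
      rwa [hku.eq, mul_inv_cancel_right] at h1
  · intro huf1
    have h2 : u = f := by rw [mul_eq_one_iff_eq_inv, inv_eq h.root hf] at huf1; exact huf1
    have h3 : R a f := h.of_commute (hA ha) hf (h2 ▸ hua.symm)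
    exact hae (h.trans h3 (h.of_commute hf he (h2 ▸ hue)))

end Setup

namespace Setup

variable (h : Setup D R)
include h

/-- The product of two distinct commuting members is a member. -/
theorem mul_mem_of_commute {d d' : G} (hd : d ∈ D) (hd' : d' ∈ D) (hc : Commute d d')
    (hne : d ≠ d') : d * d' ∈ D := by
  by_contra hvD
  obtain ⟨v, hv⟩ : ∃ v, v = d * d' := ⟨_, rfl⟩
  rw [← hv] at hvD
  have hv2 : v * v = 1 := by
    rw [hv, hc.symm.mul_mul_mul_comm, sq_one h.root hd, sq_one h.root hd', one_mul]
  have hv1 : v ≠ 1 := fun e => hne (by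
    rw [hv, mul_eq_one_iff_eq_inv, inv_eq h.root hd'] at e; exact e)
  have hdd' : d' = d * v := by rw [hv, cancel h.root hd]
  have hvd : Commute v d := hv ▸ (Commute.refl d).mul_left hc.symm
  obtain ⟨p, hp, hmv⟩ := h.exists_moved hv2 hv1
  obtain ⟨f, hf, hvf, hvfp, hfp⟩ := h.middle_of_moved hv2 hp hmv
  have hdf : R d f := h.rel_of_commute_mul hd hd' hc hne hf (hv ▸ hvf)
  have hdp : ¬ R d p := fun e => hfp (h.trans (h.symm hdf) e)
  by_cases hfd : Commute f d
  · have hfd' : Commute f d' := hdd' ▸ hfd.mul_right hvf.symm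
    refine h.not_outside (A := {d, d', f}) ?_ ?_ (a := d) (u := v * f) (by simp) ?_ ?_
      ⟨p, hp, hdp, hvfp⟩
    · rintro x (rfl | rfl | rfl) <;> assumption
    · rintro x (rfl | rfl | rfl) y (rfl | rfl | rfl)
      exacts [Commute.refl _, hc, hfd.symm, hc.symm, Commute.refl _, hfd'.symm, hfd, hfd',
        Commute.refl _]
    · rw [hv]
      exact mul_mem (mul_mem (Subgroup.subset_closure (by simp))
        (Subgroup.subset_closure (by simp))) (Subgroup.subset_closure (by simp))
    · intro e
      rw [mul_eq_one_iff_eq_inv, inv_eq h.root hf] at e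
      exact hvD (e ▸ hf)
  by_cases ho : OddAdj D d f
  · obtain ⟨m, -, hmd, hcm, -⟩ := exists_middle h.root ho
    have hvm : Commute v m := hcm v hvd hvf
    have h1 : m * d' * m⁻¹ = f * v := by
      rw [hdd', ← hmd]
      calc m * (d * v) * m⁻¹ = m * d * m⁻¹ * (m * v * m⁻¹) := by group
        _ = m * d * m⁻¹ * v := by rw [hvm.symm.eq, mul_inv_cancel_right]
    have h2 : f * v ∈ D := h1 ▸ h.root.conj_mem d' hd' m
    rw [← hvf.eq] at h2
    have h3 : R f (v * f) := h.of_commute hf h2 (hvf.symm.mul_right (Commute.refl f))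
    exact hfp (h.trans h3 (h.of_commute h2 hp hvfp))
  obtain ⟨htd, htf⟩ := tri_bracket h.root hd hf ho fun e => hfd e.symm
  have hvq : Commute v (d * f * d * f) := ((hvd.mul_right hvf).mul_right hvd).mul_right hvf
  generalize hq : d * f * d * f = q at htd htf hvq
  have hgq : d * (v * f) * d⁻¹ = v * f * q := by
    have h1 : d * f * d = f * q := by
      rw [htf.comm.eq, ← hq, mul_assoc _ f f, sq_one h.root hf, mul_one]
    rw [inv_eq h.root hd, ← mul_assoc d v, ← hvd.eq, mul_assoc v d f, mul_assoc v, h1, ← mul_assoc]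
  obtain ⟨k, hkg, hkq, hkf⟩ := h.exists_centralizing (w := v * f) htd.right hf
    (h.of_commute htd.right hf htf.comm.symm) hp
    (fun e => hdp (h.trans (h.of_commute hd htd.right htd.comm) e))
    (hvq.mul_left htf.comm) (hvf.mul_left (Commute.refl f)) hvfp
  have hkgq : k * (v * f * q) * k⁻¹ = v := by
    calc k * (v * f * q) * k⁻¹ = k * (v * f) * k⁻¹ * (k * q * k⁻¹) := by group
      _ = v := by rw [hkg.eq, mul_inv_cancel_right, hkq, mul_assoc, sq_one h.root hf, mul_one]
  have hout : Commute v (k * (d * p * d⁻¹) * k⁻¹) := hkgq ▸ (hgq ▸ hvfp.conj d).conj k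
  have hr : R d (k * (d * p * d⁻¹) * k⁻¹) :=
    h.rel_of_commute_mul hd hd' hc hne (h.root.conj_mem _ (h.root.conj_mem p hp d) k) (hv ▸ hout)
  have hkd : Fix R k d := h.fix_congr hkf (h.symm (h.of_commute hd htd.right htd.comm))
  have hdd : Fix R d d := h.fix_of_commute (Commute.refl d)
  exact hdp ((h.rel_conj_iff d).1 (h.trans hdd ((h.rel_conj_iff k).1 (h.trans hkd hr))))

/-- Two distinct commuting members form a triangle. -/
theorem tri_of_commute {d d' : G} (hd : d ∈ D) (hd' : d' ∈ D) (hc : Commute d d') (hne : d ≠ d') :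
    Tri D d d' :=
  ⟨hd, hd', hc, h.mul_mem_of_commute hd hd' hc hne⟩

/-- No member commutes with both members of an odd pair. -/
theorem not_commute_oddAdj {m z z' : G} (hm : m ∈ D) (ho : OddAdj D z z') (hz : Commute m z) :
    ¬ Commute m z' := by
  intro hz'
  by_cases hmz : m = z
  · exact not_commute h.root ho (hmz ▸ hz')
  · exact not_commute_of_adj h.root (h.tri_of_commute hm ho.1 hz hmz) ho hz'

end Setup

end CfsgLib.LocalEven.RootReduction
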