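import Cfsg.Agent.Lib.LocalEven.RootReduction.Classes
import Cfsg.Agent.Lib.LocalEven.RootReduction.Connected
import Cfsg.Agent.Lib.LocalEven.TIEndgame.Reduction
import Cfsg.Agent.Lib.RankOne.Split.Bender
import Cfsg.Agent.Lib.RankOne.Split.Conclusion
import Cfsg.Agent.Lib.LocalEven.BenderSplit.SplitTheorem
import Cfsg.Prelude.Def_QuasithinSetup

/-!
# The structure of a group with a disconnected set of root involutions

Given Theorem T, the group modulo its centre is one of the three rank one groups; a disconnected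
set of root involutions with a triangle gives a setting modulo the largest normal 2-subgroup.
-/

set_option autoImplicit false
set_option linter.style.haveILetI false

namespace CfsgLib.LocalEven.RootReduction

open Cfsg CfsgLib.Perm.RootInvolution CfsgLib.Involution CfsgLib.LocalEven.TIEndgame

universe u

/-- A faithful action with a TI setting and no bad involution: one of the three groups. -/
theorem structure_of_noBad {Y : Type u} [Group Y] [Finite Y] {Ω : Type*} [Finite Ω] [MulAction Y Ω]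
    [FaithfulSMul Y Ω] {W : Ω → Subgroup Y} (hW : TISetting W) (hnb : NoBad Y Ω)
    (hgen : Subgroup.closure (members W) = ⊤) {a b : Ω} (hab : a ≠ b)
    (h4 : CfsgLib.RankOne.SplitBender.HasFour Y) :
    (∃ (F : Type) (_ : Field F) (_ : Fintype F), CharP F 2 ∧ 4 ≤ Fintype.card F ∧
      Nonempty (Y ≃* Matrix.ProjectiveSpecialLinearGroup (Fin 2) F)) ∨
    Lie.IsoSuzuki Y ∨
    (∃ (F : Type) (_ : Field F) (_ : Fintype F) (q : ℕ), CharP F 2 ∧ Fintype.card F = q ^ 2 ∧ 4 ≤ q ∧
      Nonempty (Y ≃* PSU 3 F q)) := by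
  classical
  haveI : Fact (Nat.Prime 2) := ⟨Nat.prime_two⟩
  haveI : MulAction.IsPretransitive Y Ω := ⟨fun c d => hW.onePoint.exists_move hW.covers c d⟩
  set H := MulAction.stabilizer Y a with hH
  have hSE : IsStronglyEmbedded H := by
    refine ⟨fun e => ?_, ?_, fun g hg => ?_⟩
    · obtain ⟨g, hg⟩ := MulAction.exists_smul_eq Y a b
      exact hab ((MulAction.mem_stabilizer_iff.1 (show g ∈ H from e ▸ Subgroup.mem_top g)).symm.trans hg)
    · obtain ⟨x, hx1⟩ := (Subgroup.ne_bot_iff_exists_ne_one).1 (hW.ne_bot a)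
      have hx2 : orderOf (x : Y) = 2 := hW.orderOf_member ⟨fun e => hx1 (Subtype.ext e), a, x.2⟩
      exact even_iff_two_dvd.2 (hx2 ▸ Subgroup.orderOf_dvd_natCard _ (hW.fix a x.2))
    · by_contra hev
      rw [Nat.not_odd_iff_even] at hev
      obtain ⟨v, hv, hv2⟩ := Involution.Basic.exists_involution_of_even _ hev
      obtain ⟨hva, m, hm, hmv⟩ := Subgroup.mem_inf.1 hv
      refine hnb v ⟨hv2, a, g • a, fun e => hg (MulAction.mem_stabilizer_iff.2 e.symm),
        MulAction.mem_stabilizer_iff.1 hva, ?_⟩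
      rw [← hmv, MulEquiv.coe_toMonoidHom, MulAut.conj_apply, mul_smul, mul_smul, inv_smul_smul,
        MulAction.mem_stabilizer_iff.1 hm]
  have hcore : H.normalCore = ⊥ := by
    refine (Subgroup.eq_bot_iff_forall _).2 fun x hx => FaithfulSMul.eq_of_smul_eq_smul fun c : Ω => ?_
    obtain ⟨g, rfl⟩ := MulAction.exists_smul_eq Y a c
    have h1 : g⁻¹ * x * g⁻¹⁻¹ ∈ H :=
      H.normalCore_le ((Subgroup.normalCore_normal H).conj_mem x hx g⁻¹)
    have h2 := MulAction.mem_stabilizer_iff.1 h1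
    rw [inv_inv, mul_smul, mul_smul, inv_smul_eq_iff] at h2
    rw [one_smul, h2]
  obtain ⟨t, Q, hS⟩ := CfsgLib.LocalEven.BenderSplit.setupExists_of_min
    CfsgLib.LocalEven.BenderSplit.splitMin H hSE hcore h4
  haveI := CfsgLib.RankOne.SplitBender.faithful_of_core hcore
  obtain ⟨L, hLn, hLodd, hL⟩ := CfsgLib.RankOne.conclusion hS h4
  have hLtop : L = ⊤ := by
    rw [eq_top_iff, ← hgen, Subgroup.closure_le]
    intro d hd
    haveI := hLn
    rw [SetLike.mem_coe, ← QuotientGroup.eq_one_iff, ← orderOf_eq_one_iff]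
    refine Nat.eq_one_of_dvd_coprimes (Nat.coprime_two_right.2 hLodd) ?_
      (hW.orderOf_member hd ▸ orderOf_map_dvd (QuotientGroup.mk' L) d)
    exact Subgroup.index_eq_card L ▸ orderOf_dvd_natCard _
  subst hLtop
  rcases hL with ⟨F, i1, i2, ⟨n, hn, hc⟩, ⟨f⟩⟩ | ⟨F, i1, i2, m, hm, hc, ⟨f⟩⟩ |
    ⟨F, i1, i2, n, hn, hc, ⟨f⟩⟩
  · exact Or.inl ⟨F, i1, i2, charP_of_card_eq_prime_pow hc,
      hc ▸ CfsgLib.RankOne.SplitBender.four_le_two_pow hn, ⟨Subgroup.topEquiv.symm.trans f⟩⟩
  · exact Or.inr (Or.inl ⟨F, i1, i2, m, hm, hc, ⟨Subgroup.topEquiv.symm.trans f⟩⟩)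
  · exact Or.inr (Or.inr ⟨F, i1, i2, 2 ^ n, charP_of_card_eq_prime_pow (hc.trans (pow_mul 2 n 2).symm),
      hc, CfsgLib.RankOne.SplitBender.four_le_two_pow hn, ⟨Subgroup.topEquiv.symm.trans f⟩⟩)

/-- Modulo the centre a setting is one of the three groups, given Theorem T. -/
theorem Setup.structure_mod_center (hstep : TIStep.{u}) {G : Type u} [Group G] [Finite G] {D : Set G}
    {R : G → G → Prop} (h : Setup D R) :
    (∃ (F : Type) (_ : Field F) (_ : Fintype F), CharP F 2 ∧ 4 ≤ Fintype.card F ∧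
      Nonempty (G ⧸ Subgroup.center G ≃* Matrix.ProjectiveSpecialLinearGroup (Fin 2) F)) ∨
    Lie.IsoSuzuki (G ⧸ Subgroup.center G) ∨
    (∃ (F : Type) (_ : Field F) (_ : Fintype F) (q : ℕ), CharP F 2 ∧ Fintype.card F = q ^ 2 ∧ 4 ≤ q ∧
      Nonempty (G ⧸ Subgroup.center G ≃* PSU 3 F q)) := by
  letI := h.centralAction
  haveI := h.centralAction_faithful
  obtain ⟨x, hx, y, hy, hxy⟩ := h.two
  obtain ⟨p, q, ht⟩ := h.tri
  refine structure_of_noBad h.tiSetting (noBad_of_step' hstep h.tiSetting h.closure_members)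
    h.closure_members (a := Quotient.mk h.classSetoid ⟨x, hx⟩) (b := Quotient.mk h.classSetoid ⟨y, hy⟩)
    (fun e => hxy (Quotient.exact e)) ?_
  refine ⟨QuotientGroup.mk' _ p, QuotientGroup.mk' _ q, h.mk_member_ne_one ht.left,
    h.mk_member_ne_one ht.right, fun e => h.mk_member_ne_one ht.mem ?_, ?_, ?_, ?_⟩
  · rw [map_mul, e, ← map_mul, sq_one h.root ht.right, map_one]
  · rw [← map_mul, sq_one h.root ht.left, map_one]
  · rw [← map_mul, sq_one h.root ht.right, map_one]
  · rw [← map_mul, ← map_mul, ht.comm.eq]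

/-- A member in the largest normal 2-subgroup forces the commuting graph to be connected; so a
disconnected one gives a setting modulo that subgroup. -/
theorem exists_setup_quotient {G : Type u} [Group G] [Finite G] {D : Set G}
    (hD : IsRootInvolutionSet D) (hDD : (D ∩ commutingProducts D).Nonempty)
    (hcon : ¬ IsConnectedSet (CommAdj D) D) :
    ∃ R, Setup (QuotientGroup.mk' (pCore 2 G) '' D) R := by
  classical
  haveI : Fact (Nat.Prime 2) := ⟨Nat.prime_two⟩
  set π := QuotientGroup.mk' (pCore 2 G) with hπ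
  have h2 : IsPGroup 2 (pCore 2 G) := Solvable.Cores.isPGroup_pCore 2
  -- members whose images commute are joined
  have hjoin : ∀ p ∈ D, ∀ q ∈ D, Commute (π p) (π q) →
      Relation.ReflTransGen (CommAdj D) p q := by
    intro p hp q hq hc
    by_cases hpq : p = q
    · rw [hpq]
    by_cases hc' : Commute p q
    · exact .single ⟨hp, hq, hpq, hc'⟩
    by_cases ho : OddAdj D p q
    · exfalso
      have hs : π ((p * q) * (p * q)) = 1 := by
        rw [map_mul, map_mul, hc.symm.mul_mul_mul_comm, ← map_mul, ← map_mul, sq_one hD hp,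
          sq_one hD hq, map_one, one_mul]
      have h1 := eq_one_of_odd_of_mem h2 ((QuotientGroup.eq_one_iff _).1 hs)
        (by rw [← pow_two]; exact Odd.of_dvd_nat ho.2.2.2 (orderOf_pow_dvd 2))
      have h3 : orderOf (p * q) = 1 := Nat.eq_one_of_dvd_coprimes
        (Nat.coprime_two_right.2 ho.2.2.2) dvd_rfl (orderOf_dvd_of_pow_eq_one (by rw [pow_two, h1]))
      rw [orderOf_eq_one_iff, mul_eq_one_iff_eq_inv, inv_eq hD hq] at h3
      exact hpq h3
    obtain ⟨htp, htq⟩ := tri_bracket hD hp hq ho hc'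
    have h1 : CommAdj D p (p * q * p * q) := ⟨hp, htp.right, htp.ne hD, htp.comm⟩
    have h3 : CommAdj D (p * q * p * q) q := ⟨htp.right, hq, (htq.ne hD).symm, htq.comm.symm⟩
    exact (Relation.ReflTransGen.single h1).tail h3
  have hker : ∀ d ∈ D, π d ≠ 1 := by
    intro d hd e
    refine hcon fun p hp q hq => ?_
    have h1 : ∀ r ∈ D, Commute (π d) (π r) := fun r _ => e ▸ Commute.one_left (π r)
    exact (hjoin p hp d hd (h1 p hp).symm).trans (hjoin d hd q hq (h1 q hq))
  have hsq : ∀ d ∈ D, π d * π d = 1 := fun d hd => by rw [← map_mul, sq_one hD hd, map_one]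
  have hlift : ∀ x y, Relation.ReflTransGen (CommAdj (π '' D)) x y → ∀ p ∈ D, ∀ q ∈ D, π p = x →
      π q = y → Relation.ReflTransGen (CommAdj D) p q := by
    intro x y hxy
    induction hxy with
    | refl => exact fun p hp q hq e1 e2 => hjoin p hp q hq (by rw [e1, e2])
    | @tail y z _ hyz ih =>
      intro p hp q hq e1 e2
      obtain ⟨⟨r, hr, hry⟩, -, -, hc⟩ := hyz
      exact (ih p hp r hr e1 hry).trans (hjoin r hr q hq (hry ▸ e2 ▸ hc))
  have hroot : IsRootInvolutionSet (π '' D) :=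
    { orderOf_eq := by
        rintro _ ⟨d, hd, rfl⟩
        exact Involution.Dihedral.orderOf_eq_two (hsq d hd) (hker d hd)
      generates := by
        rw [← MonoidHom.map_closure, hD.generates, ← MonoidHom.range_eq_map,
          MonoidHom.range_eq_top.2 (QuotientGroup.mk'_surjective _)]
      conj_mem := by
        rintro _ ⟨d, hd, rfl⟩ g
        obtain ⟨g, rfl⟩ := QuotientGroup.mk'_surjective (pCore 2 G) g
        exact ⟨g * d * g⁻¹, hD.conj_mem d hd g, by rw [map_mul, map_mul, map_inv]⟩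
      pair := by
        rintro _ ⟨p, hp, rfl⟩ _ ⟨q, hq, rfl⟩
        rcases hD.pair p hp q hq with h | h | ⟨h, h'⟩
        · exact Or.inl (by rw [← map_mul, h, map_mul])
        · exact Or.inr (Or.inl (h.of_dvd_nat (by rw [← map_mul]; exact orderOf_map_dvd π (p * q))))
        · have hdvd : orderOf (π p * π q) ∣ 2 ^ 2 := by
            rw [← map_mul]; exact (orderOf_map_dvd π (p * q)).trans (dvd_of_eq h)
          obtain ⟨i, hi, hi'⟩ := (Nat.dvd_prime_pow Nat.prime_two).1 hdvd
          rcases (show i ≤ 1 ∨ i = 2 by omega) with hi1 | rfl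
          · refine Or.inl ?_
            have hs : (π p * π q) ^ 2 = 1 := orderOf_dvd_iff_pow_eq_one.1
              (hi' ▸ (Nat.pow_dvd_pow 2 hi1 : 2 ^ i ∣ 2 ^ 1))
            calc π p * π q = π p * π q * ((π p * π q) ^ 2)⁻¹ := by rw [hs, inv_one, mul_one]
              _ = (π q)⁻¹ * (π p)⁻¹ := by group
              _ = π q * π p := by
                  rw [inv_eq_of_mul_eq_one_right (hsq p hp), inv_eq_of_mul_eq_one_right (hsq q hq)]
          · exact Or.inr (Or.inr ⟨hi', ⟨_, h', by rw [map_pow, map_mul]⟩⟩) }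
  obtain ⟨w, hw, a, ha, b, hb, hab, hab1, rfl⟩ := hDD
  refine ⟨Relation.ReflTransGen (CommAdj (π '' D)),
    { root := hroot
      tri := ⟨π a, π b, ⟨⟨a, ha, rfl⟩, ⟨b, hb, rfl⟩, (show Commute a b from hab).map π,
        ⟨_, hw, map_mul π _ _⟩⟩⟩
      refl := fun _ => .refl
      symm := fun h => by
        induction h with
        | refl => rfl
        | tail _ h2 ih => exact ih.head ⟨h2.2.1, h2.1, h2.2.2.1.symm, h2.2.2.2.symm⟩
      trans := fun h1 h2 => h1.trans h2
      conj := fun g h => by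
        induction h with
        | refl => rfl
        | tail _ h2 ih => exact ih.tail ⟨hroot.conj_mem _ h2.1 g, hroot.conj_mem _ h2.2.1 g,
            fun e => h2.2.2.1 (mul_left_cancel (mul_right_cancel e)),
            (Commute.conj (show Commute _ _ from h2.2.2.2) g).eq⟩
      of_commute := fun {p q} hp hq hc => by
        by_cases hpq : p = q
        · rw [hpq]
        · exact .single ⟨hp, hq, hpq, hc⟩
      two := by
        by_contra hall
        push Not at hall
        exact hcon fun p hp q hq => hlift _ _ (hall _ ⟨p, hp, rfl⟩ _ ⟨q, hq, rfl⟩) p hp q hq rfl rfl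
      o2 := CfsgLib.Components.SFT.pCore_quotient_eq_bot 2 G }⟩

/-- The disconnected case of a set of root involutions with a triangle, given Theorem T. -/
theorem structure_of_disconnected (hstep : TIStep.{u}) {G : Type u} [Group G] [Finite G] {D : Set G}
    (hD : IsRootInvolutionSet D) (hDD : (D ∩ commutingProducts D).Nonempty) :
    IsConnectedSet (CommAdj D) D ∨
    (∃ (F : Type) (_ : Field F) (_ : Fintype F), CharP F 2 ∧ 4 ≤ Fintype.card F ∧
      Nonempty (G ⧸ twoZCore G ≃* Matrix.ProjectiveSpecialLinearGroup (Fin 2) F)) ∨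
    Lie.IsoSuzuki (G ⧸ twoZCore G) ∨
    (∃ (F : Type) (_ : Field F) (_ : Fintype F) (q : ℕ), CharP F 2 ∧ Fintype.card F = q ^ 2 ∧ 4 ≤ q ∧
      Nonempty (G ⧸ twoZCore G ≃* PSU 3 F q)) := by
  by_cases hcon : IsConnectedSet (CommAdj D) D
  · exact Or.inl hcon
  obtain ⟨R, hR⟩ := exists_setup_quotient hD hDD hcon
  set φ := (QuotientGroup.mk' (Subgroup.center (G ⧸ pCore 2 G))).comp (QuotientGroup.mk' (pCore 2 G))
    with hφ
  have hker : φ.ker = twoZCore G := by
    rw [hφ, ← MonoidHom.comap_ker, QuotientGroup.ker_mk', twoZCore]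
  have e : G ⧸ twoZCore G ≃* (G ⧸ pCore 2 G) ⧸ Subgroup.center (G ⧸ pCore 2 G) :=
    (QuotientGroup.quotientMulEquivOfEq hker.symm).trans
      (QuotientGroup.quotientKerEquivOfSurjective φ
        ((QuotientGroup.mk'_surjective _).comp (QuotientGroup.mk'_surjective _)))
  rcases hR.structure_mod_center hstep with ⟨F, i1, i2, h1, h2, ⟨f⟩⟩ |
    ⟨F, i1, i2, m, hm, hc, ⟨f⟩⟩ | ⟨F, i1, i2, q, h1, h2, h3, ⟨f⟩⟩
  · exact Or.inr (Or.inl ⟨F, i1, i2, h1, h2, ⟨e.trans f⟩⟩)
  · exact Or.inr (Or.inr (Or.inl ⟨F, i1, i2, m, hm, hc, ⟨e.trans f⟩⟩))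
  · exact Or.inr (Or.inr (Or.inr ⟨F, i1, i2, q, h1, h2, h3, ⟨e.trans f⟩⟩))

end CfsgLib.LocalEven.RootReduction
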